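import Cfsg.Agent.NilpCover.Pair

/-!
Counting of flags, and the diagonal element used in dimension two.
-/

set_option autoImplicit false

namespace Cfsg.Agent.NilpCover

open Matrix Module

variable {F : Type*} [Field F] [Fintype F] {n : ℕ}

/-- The flags of the regular unipotent elements. -/
abbrev Flags (F : Type*) [Field F] (n : ℕ) :=
  {f : ℕ → Submodule F (Fin n → F) // f ∈ Set.range (flag (F := F) (n := n))}

/-- The subspaces of dimension at most half. -/
abbrev Small (F : Type*) [Field F] (n : ℕ) :=
  {W : Submodule F (Fin n → F) // 1 ≤ finrank F W ∧ 2 * finrank F W ≤ n}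

theorem finite_submodule : Finite (Submodule F (Fin n → F)) :=
  Finite.of_injective (fun W : Submodule F (Fin n → F) => (W : Set (Fin n → F))) SetLike.coe_injective

theorem finite_flags : Finite (Flags F n) :=
  (Set.finite_range _).to_subtype

theorem finite_small : Finite (Small F n) :=
  haveI := finite_submodule (F := F) (n := n)
  inferInstance

theorem small_le_flags_two : Nat.card (Small F 2) ≤ Nat.card (Flags F 2) := by
  haveI := finite_flags (F := F) (n := 2)
  choose g hg using fun W : Small F 2 => exists_flag_eq W.1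
  refine Nat.card_le_card_of_injective (fun W => (⟨flag (g W), g W, rfl⟩ : Flags F 2)) ?_
  intro W W' h
  have h1 : finrank F W.1 = finrank F W'.1 := by
    have := W.2; have := W'.2; omega
  have h2 := congrFun (congrArg Subtype.val h) (finrank F W.1)
  dsimp only at h2
  rw [hg, h1, hg] at h2
  exact Subtype.ext h2

theorem small_lt_flags (hn : 3 ≤ n) : Nat.card (Small F n) < Nat.card (Flags F n) := by
  classical
  haveI := finite_flags (F := F) (n := n)
  haveI := finite_small (F := F) (n := n)
  haveI : Nonempty (Flags F n) := ⟨⟨_, 1, rfl⟩⟩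
  choose g hg using fun W : Small F n => exists_flag_eq W.1
  -- the data of the new vector
  let jj : Small F n × Option (Fin (n / 2)) → Fin n := fun x =>
    ⟨finrank F x.1.1 + x.2.elim 0 (fun t => (t : ℕ)), by
      have := x.1.2
      rcases x.2 with _ | t
      · simp; omega
      · have := t.2; simp; omega⟩
  let vv : Small F n × Option (Fin (n / 2)) → Fin n → F := fun x i =>
    if i = jj x ∨ (x.2 = none ∧ (i : ℕ) = finrank F x.1.1 + 1) then 1 else 0
  choose g' hg' using fun x : Small F n × Option (Fin (n / 2)) =>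
    exists_flag_next (g x.1) (k := finrank F x.1.1) (jj x) (vv x) (by simp [jj]) (by simp [vv])
  let Φ : Small F n × Option (Fin (n / 2)) → Fin (n / 2) × Flags F n := fun x =>
    (⟨finrank F x.1.1 - 1, by have := x.1.2; omega⟩, ⟨flag (g' x), g' x, rfl⟩)
  have hΦ : Function.Injective Φ := by
    rintro ⟨W, t⟩ ⟨W', t'⟩ h
    simp only [Φ, Prod.mk.injEq, Fin.mk.injEq, Subtype.mk.injEq] at h
    obtain ⟨h1, h2⟩ := h
    replace h2 := congrArg Subtype.val h2
    dsimp only at h2
    have hk : finrank F W.1 = finrank F W'.1 := by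
      have := W.2; have := W'.2; omega
    have hW : W = W' := by
      have h3 := congrFun h2 (finrank F W.1)
      rw [(hg' (W, t)).1, hg] at h3
      rw [hk, (hg' (W', t')).1, hg] at h3
      exact Subtype.ext h3
    subst hW
    refine Prod.ext rfl ?_
    have hA := (hg' (W, t)).2.2 (vv (W, t')) (by
      rw [h2]; exact (hg' (W, t')).2.1)
    have hB := (hg' (W, t')).2.2 (vv (W, t)) (by
      rw [← h2]; exact (hg' (W, t)).2.1)
    have hk2 := W.2
    rcases t with _ | s <;> rcases t' with _ | s'
    · rfl
    · exfalso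
      by_cases hs : (s' : ℕ) = 0
      · have := hB ⟨finrank F W.1 + 1, by omega⟩ (by simp) (by simp [jj, Fin.ext_iff, hs])
        simp [vv, jj, Fin.ext_iff, hs] at this
      · have := hB ⟨finrank F W.1, by omega⟩ le_rfl (by simp [jj, Fin.ext_iff]; omega)
        simp [vv, jj, Fin.ext_iff, hs] at this
    · exfalso
      by_cases hs : (s : ℕ) = 0
      · have := hA ⟨finrank F W.1 + 1, by omega⟩ (by simp) (by simp [jj, Fin.ext_iff, hs])
        simp [vv, jj, Fin.ext_iff, hs] at this
      · have := hA ⟨finrank F W.1, by omega⟩ le_rfl (by simp [jj, Fin.ext_iff]; omega)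
        simp [vv, jj, Fin.ext_iff, hs] at this
    · by_contra hne
      have hne' : (s' : ℕ) ≠ (s : ℕ) := fun h0 => hne (by rw [Fin.ext h0])
      have := hA ⟨finrank F W.1 + s', by have := s'.2; omega⟩ (by simp)
        (by simp [jj, Fin.ext_iff, hne'])
      simp [vv, jj, Fin.ext_iff, hne'] at this
  have hc := Nat.card_le_card_of_injective Φ hΦ
  rw [Nat.card_prod, Nat.card_prod, Finite.card_option, Nat.card_fin] at hc
  by_contra hle
  push Not at hle
  have h4 := (Nat.mul_le_mul_right (n / 2 + 1) hle).trans hc
  have h5 : 0 < Nat.card (Flags F n) := Nat.card_pos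
  nlinarith

/-- The extra element needed in dimension two. -/
theorem exists_extra (h4 : 4 ≤ Fintype.card F) :
    ∃ a : GL (Fin 2) F, (a : Matrix (Fin 2) (Fin 2) F).det = 1 ∧
      (∀ (g : GL (Fin 2) F) (H : Subgroup (GL (Fin 2) F)), Group.IsNilpotent H → a ∈ H →
        unipOf g ∈ H → False) ∧
      ∀ (A : Subalgebra F (Matrix (Fin 2) (Fin 2) F)) (s : GL (Fin 2) F), IsGen A s →
        ∀ H : Subgroup (GL (Fin 2) F), Group.IsNilpotent H → a ∈ H → s ∈ H → False := by
  classical
  obtain ⟨x, hx⟩ := IsCyclic.exists_ofOrder_eq_natCard (α := Fˣ)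
  rw [Nat.card_units, Nat.card_eq_fintype_card] at hx
  have hx2 : ∀ m : ℕ, 0 < m → (x : F) ^ m = 1 → Fintype.card F - 1 ∣ m := fun m _ h => by
    rw [← hx]
    exact orderOf_dvd_of_pow_eq_one (Units.ext (by simpa using h))
  have hxsq : (x : F) * x ≠ 1 := by
    intro h
    have := Nat.le_of_dvd (by norm_num) (hx2 2 (by norm_num) (by rw [sq]; exact h))
    omega
  have hne : (x : F) ≠ (x : F)⁻¹ := fun h => hxsq (by
    nth_rw 1 [h]
    exact inv_mul_cancel₀ x.ne_zero)
  let a0 : Matrix.SpecialLinearGroup (Fin 2) F :=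
    ⟨Matrix.diagonal ![(x : F), (x : F)⁻¹], by simp [Matrix.det_diagonal, Fin.prod_univ_two]⟩
  let a : GL (Fin 2) F := Matrix.SpecialLinearGroup.toGL a0
  have hav : (a : Matrix (Fin 2) (Fin 2) F) = Matrix.diagonal ![(x : F), (x : F)⁻¹] := rfl
  refine ⟨a, a0.2, ?_, ?_⟩
  · intro g H hH ha hu
    obtain ⟨p, hp⟩ := CharP.exists F
    obtain ⟨k, hpr, hq⟩ := FiniteField.card F p
    haveI := Fact.mk hpr
    have hapow : a ^ (Fintype.card F - 1) = 1 := by
      apply Units.ext
      rw [Units.val_pow_eq_pow_val, hav, Matrix.diagonal_pow, Units.val_one, ← Matrix.diagonal_one]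
      congr 1
      funext i
      fin_cases i <;> simp [FiniteField.pow_card_sub_one_eq_one _ x.ne_zero, inv_pow]
    have hcop : (orderOf (⟨a, ha⟩ : H)).Coprime (orderOf (⟨unipOf g, hu⟩ : H)) := by
      rw [← Subgroup.orderOf_coe, ← Subgroup.orderOf_coe]
      refine Nat.Coprime.of_dvd (orderOf_dvd_of_pow_eq_one hapow)
        (orderOf_dvd_of_pow_eq_one (unipOf_pow p g)) (Nat.Coprime.pow_right _ ?_)
      rw [Nat.coprime_comm, hpr.coprime_iff_not_dvd]
      intro hd
      have h1 : p ∣ Fintype.card F := hq ▸ dvd_pow_self p k.pos.ne'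
      have h2 := Nat.dvd_sub h1 hd
      rw [show Fintype.card F - (Fintype.card F - 1) = 1 by omega] at h2
      exact hpr.not_dvd_one h2
    have hc : Commute a (unipOf g) :=
      congrArg Subtype.val (Cfsg.Agent.OddLocal.commute_of_coprime_orderOf hcop).eq
    set b : Matrix (Fin 2) (Fin 2) F :=
      ((g⁻¹ : GL (Fin 2) F) : Matrix (Fin 2) (Fin 2) F) * a * g with hb
    have hbN : b * shift F 2 = shift F 2 * b := by
      have h1 : Commute (g⁻¹ * a * g) (g⁻¹ * unipOf g * g) := by
        have := hc.map (MulAut.conj g⁻¹).toMonoidHom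
        simpa using this
      rw [show g⁻¹ * unipOf g * g = Matrix.SpecialLinearGroup.toGL (regUnip F 2) by
        simp [unipOf, mul_assoc]] at h1
      have h2 : b * (1 + shift F 2) = (1 + shift F 2) * b := congrArg Units.val h1.eq
      rw [mul_add, add_mul, mul_one, one_mul] at h2
      exact add_left_cancel h2
    have e1 := congrFun (congrFun hbN 0) 0
    have e2 := congrFun (congrFun hbN 0) 1
    simp [Matrix.mul_apply, Fin.sum_univ_two, shift] at e1 e2
    have htr : b.trace = (x : F) + (x : F)⁻¹ := by
      rw [hb, Matrix.trace_units_conj', hav, Matrix.trace_fin_two]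
      simp
    have hdet : b.det = 1 := by
      rw [hb, Matrix.det_units_conj']
      exact a0.2
    rw [Matrix.trace_fin_two] at htr
    rw [Matrix.det_fin_two, ← e1] at hdet
    rw [← e2] at htr hdet
    apply hne
    have hsq : ((x : F) - (x : F)⁻¹) * ((x : F) - (x : F)⁻¹) = 0 := by
      linear_combination
        (-((x : F) + (x : F)⁻¹) - 2 * b 0 0) * htr + 4 * hdet - 4 * mul_inv_cancel₀ x.ne_zero
    exact sub_eq_zero.1 (mul_self_eq_zero.1 hsq)
  · intro A s h H hH ha hs
    haveI := hH
    have hAunit : ∀ M ∈ A, ∀ c d : F, (M - scalar (Fin 2) c) * (M - scalar (Fin 2) d) = 0 →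
        M = scalar (Fin 2) c ∨ M = scalar (Fin 2) d := by
      intro M hM c d h0
      by_contra hcon
      push Not at hcon
      exact not_isUnit_zero (h0 ▸
        (h.singer.unit _ (A.sub_mem hM (A.algebraMap_mem c)) (sub_ne_zero.2 hcon.1)).mul
          (h.singer.unit _ (A.sub_mem hM (A.algebraMap_mem d)) (sub_ne_zero.2 hcon.2)))
    rcases h.le_torus_or le_rfl H hs with hle | ⟨-, e, he⟩
    · rcases hAunit _ (mem_torus.1 (hle ha)) (x : F) ((x : F)⁻¹) (by
        rw [hav]
        ext i j
        fin_cases i <;> fin_cases j <;> simp [Matrix.mul_apply, Fin.sum_univ_two]) with h0 | h0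
      · have h1 := congrFun (congrFun h0 1) 1
        simp [hav] at h1
        exact hne h1.symm
      · have h1 := congrFun (congrFun h0 0) 0
        simp [hav] at h1
        exact hne h1
    · have hns : ∀ c : F, (a : Matrix (Fin 2) (Fin 2) F) ≠ scalar (Fin 2) c := by
        intro c hc
        have h1 := congrFun (congrFun hc 0) 0
        have h2 := congrFun (congrFun hc 1) 1
        simp [hav] at h1 h2
        exact hne (h1.trans h2.symm)
      obtain ⟨z, hzH, hzs, hz⟩ := exists_proj_central H ha hns
      obtain ⟨c, hc⟩ := hz a ha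
      obtain ⟨c', hc'⟩ := hz s hs
      have hzA := h.mem_of_proj_commute le_rfl (fun _ => h4) z c' hc'
      set Z : Matrix (Fin 2) (Fin 2) F := (z : Matrix (Fin 2) (Fin 2) F) with hZ
      have hc2 : Z * a = scalar (Fin 2) c * a * Z := by
        rw [← hc, hZ, ← Units.val_mul, ← Units.val_mul, inv_mul_cancel_right]
      have e00 := congrFun (congrFun hc2 0) 0
      have e01 := congrFun (congrFun hc2 0) 1
      have e10 := congrFun (congrFun hc2 1) 0
      have e11 := congrFun (congrFun hc2 1) 1
      simp [Matrix.mul_apply, Fin.sum_univ_two, hav] at e00 e01 e10 e11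
      by_cases hd : Z 0 0 = 0 ∧ Z 1 1 = 0
      · have hdet : IsUnit Z.det := (Matrix.isUnit_iff_isUnit_det _).1 z.isUnit
        rw [Matrix.det_fin_two, hd.1, hd.2] at hdet
        have h01 : Z 0 1 ≠ 0 := fun h0 => by simp [h0] at hdet
        have h10 : Z 1 0 ≠ 0 := fun h0 => by simp [h0] at hdet
        have f01 : (x : F)⁻¹ = c * (x : F) := by
          apply mul_left_cancel₀ h01
          linear_combination e01
        have f10 : (x : F) = c * (x : F)⁻¹ := by
          apply mul_left_cancel₀ h10
          linear_combination e10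
        have hx4 : (x : F) ^ 4 = 1 := by
          have hci : (x : F) * (x : F)⁻¹ = 1 := mul_inv_cancel₀ x.ne_zero
          linear_combination (x : F) ^ 3 * f10 + (c * (x : F) ^ 2 + 1) * hci - (x : F) * f01
        have hd4 := Nat.le_of_dvd (by norm_num) (hx2 4 (by norm_num) hx4)
        have hdv := hx2 4 (by norm_num) hx4
        have h5 : Fintype.card F = 5 := by
          rcases (show Fintype.card F - 1 = 3 ∨ Fintype.card F - 1 = 4 by omega) with h3 | h3
          · rw [h3] at hdv; omega
          · omega
        rw [h5] at he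
        rcases e with _ | _ | _ | e <;> simp [pow_succ] at he
        omega
      · have hc1 : c = 1 := by
          rcases not_and_or.1 hd with h0 | h0
          · have : Z 0 0 * (x : F) * (c - 1) = 0 := by linear_combination -e00
            simpa [h0, sub_eq_zero] using this
          · have : Z 1 1 * (x : F)⁻¹ * (c - 1) = 0 := by linear_combination -e11
            simpa [h0, sub_eq_zero] using this
        subst hc1
        have g01 : Z 0 1 = 0 := by
          have : Z 0 1 * ((x : F) - (x : F)⁻¹) = 0 := by linear_combination -e01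
          simpa [sub_ne_zero.2 hne] using this
        have g10 : Z 1 0 = 0 := by
          have : Z 1 0 * ((x : F) - (x : F)⁻¹) = 0 := by linear_combination e10
          simpa [sub_ne_zero.2 hne] using this
        rcases hAunit Z hzA (Z 0 0) (Z 1 1) (by
          ext i j
          fin_cases i <;> fin_cases j <;> simp [Matrix.mul_apply, Fin.sum_univ_two, g01, g10])
          with h0 | h0
        · exact hzs _ h0
        · exact hzs _ h0

end Cfsg.Agent.NilpCover
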