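import Mathlib

/-!
Flags, regular unipotent elements and counting of flags through a subspace.
-/

set_option autoImplicit false

namespace Cfsg.Agent.NilpCover

open Matrix Module

variable {F : Type*} [Field F] {n : ℕ}

local notation "𝕍" => Fin n → F
local notation "𝕄" => Matrix (Fin n) (Fin n) F

/-- The span of the first `k` unit vectors. -/
def stdSub (F : Type*) [Field F] (n k : ℕ) : Submodule F (Fin n → F) where
  carrier := {x | ∀ i : Fin n, k ≤ (i : ℕ) → x i = 0}
  add_mem' := fun {x y} hx hy i hi => by simp [hx i hi, hy i hi]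
  zero_mem' := fun i _ => rfl
  smul_mem' := fun c x hx i hi => by simp [hx i hi]

theorem finrank_stdSub {k : ℕ} (hk : k ≤ n) : finrank F (stdSub F n k) = k := by
  let e : stdSub F n k ≃ₗ[F] (Fin k → F) :=
    { toFun := fun x i => (x : Fin n → F) (Fin.castLE hk i)
      map_add' := fun _ _ => rfl
      map_smul' := fun _ _ => rfl
      invFun := fun y => ⟨fun i => if h : (i : ℕ) < k then y ⟨i, h⟩ else 0,
        fun i hi => dif_neg (not_lt.2 hi)⟩
      left_inv := fun x => by
        apply Subtype.ext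
        funext i
        by_cases h : (i : ℕ) < k
        · simp [h]
        · simp [h, x.2 i (not_lt.1 h)]
      right_inv := fun y => by
        funext i
        simp }
  rw [e.finrank_eq, finrank_fin_fun]

theorem stdSub_eq_top {k : ℕ} (hk : n ≤ k) : stdSub F n k = ⊤ := by
  rw [eq_top_iff]
  intro x _ i hi
  exact absurd i.2 (by omega)

/-- An invertible matrix as a linear equivalence. -/
noncomputable def glEquiv (g : GL (Fin n) F) : (Fin n → F) ≃ₗ[F] (Fin n → F) where
  toFun := fun x => (g : 𝕄) *ᵥ x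
  map_add' := fun x y => mulVec_add _ x y
  map_smul' := fun c x => mulVec_smul _ c x
  invFun := fun x => ((g⁻¹ : GL (Fin n) F) : 𝕄) *ᵥ x
  left_inv := fun x => by
    dsimp only
    rw [mulVec_mulVec, ← Units.val_mul, inv_mul_cancel, Units.val_one, one_mulVec]
  right_inv := fun x => by
    dsimp only
    rw [mulVec_mulVec, ← Units.val_mul, mul_inv_cancel, Units.val_one, one_mulVec]

theorem exists_gl (e : 𝕍 ≃ₗ[F] 𝕍) : ∃ g : GL (Fin n) F, ∀ x, (g : 𝕄) *ᵥ x = e x :=
  ⟨⟨LinearMap.toMatrix' (e : 𝕍 →ₗ[F] 𝕍), LinearMap.toMatrix' (e.symm : 𝕍 →ₗ[F] 𝕍),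
      by rw [← LinearMap.toMatrix'_comp, LinearEquiv.comp_coe, LinearEquiv.symm_trans_self]; simp,
      by rw [← LinearMap.toMatrix'_comp, LinearEquiv.comp_coe, LinearEquiv.self_trans_symm]; simp⟩,
    fun x => by
      change LinearMap.toMatrix' (e : 𝕍 →ₗ[F] 𝕍) *ᵥ x = e x
      rw [LinearMap.toMatrix'_mulVec]; rfl⟩

/-- The `k`-th member of the flag of `g`. -/
noncomputable def flag (g : GL (Fin n) F) (k : ℕ) : Submodule F (Fin n → F) :=
  (stdSub F n k).map ((glEquiv g) : (Fin n → F) →ₗ[F] (Fin n → F))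

theorem mem_flag {g : GL (Fin n) F} {k : ℕ} {x : 𝕍} :
    x ∈ flag g k ↔ ((g⁻¹ : GL (Fin n) F) : 𝕄) *ᵥ x ∈ stdSub F n k :=
  Submodule.mem_map_equiv (e := glEquiv g) _

theorem finrank_flag (g : GL (Fin n) F) {k : ℕ} (hk : k ≤ n) : finrank F (flag g k) = k := by
  rw [flag, LinearEquiv.finrank_map_eq, finrank_stdSub hk]

theorem flag_eq_top (g : GL (Fin n) F) {k : ℕ} (hk : n ≤ k) : flag g k = ⊤ := by
  rw [flag, stdSub_eq_top hk, Submodule.map_top, LinearEquiv.range]

theorem exists_flag_eq (W : Submodule F 𝕍) : ∃ g : GL (Fin n) F, flag g (finrank F W) = W := by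
  have hk : finrank F W ≤ n := (Submodule.finrank_le W).trans_eq (finrank_fin_fun (R := F))
  obtain ⟨C, hC⟩ := Submodule.exists_isCompl (stdSub F n (finrank F W))
  obtain ⟨C', hC'⟩ := Submodule.exists_isCompl W
  have h1 := Submodule.finrank_add_eq_of_isCompl hC
  have h2 := Submodule.finrank_add_eq_of_isCompl hC'
  rw [finrank_stdSub hk] at h1
  let e₁ : stdSub F n (finrank F W) ≃ₗ[F] W := LinearEquiv.ofFinrankEq _ _ (finrank_stdSub hk)
  let e₂ : C ≃ₗ[F] C' := LinearEquiv.ofFinrankEq _ _ (by omega)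
  let e : 𝕍 ≃ₗ[F] 𝕍 := (Submodule.prodEquivOfIsCompl _ _ hC).symm ≪≫ₗ (e₁.prodCongr e₂) ≪≫ₗ
    Submodule.prodEquivOfIsCompl _ _ hC'
  obtain ⟨g, hg⟩ := exists_gl e
  refine ⟨g, Submodule.eq_of_le_of_finrank_eq ?_ (finrank_flag g hk)⟩
  rintro _ ⟨x, hx, rfl⟩
  change (g : 𝕄) *ᵥ x ∈ W
  rw [hg]
  have hx' : (Submodule.prodEquivOfIsCompl _ _ hC).symm x = (⟨x, hx⟩, 0) :=
    Submodule.prodEquivOfIsCompl_symm_apply_left _ _ hC ⟨x, hx⟩
  simp [e, hx']

/-- Flags with a prescribed member and a prescribed vector in the next member. -/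
theorem exists_flag_next (g : GL (Fin n) F) {k : ℕ} (j : Fin n) (v : 𝕍) (hk : k ≤ (j : ℕ))
    (hv : v j = 1) :
    ∃ g' : GL (Fin n) F, flag g' k = flag g k ∧ (g : 𝕄) *ᵥ v ∈ flag g' (k + 1) ∧
      ∀ z : 𝕍, (g : 𝕄) *ᵥ z ∈ flag g' (k + 1) →
        ∀ i : Fin n, k ≤ (i : ℕ) → i ≠ j → z i = z j * v i := by
  classical
  let k' : Fin n := ⟨k, lt_of_le_of_lt hk j.2⟩
  let d : 𝕍 := v - Pi.single j 1
  have hd : d j = 0 := by simp [d, hv]
  let T : 𝕍 ≃ₗ[F] 𝕍 :=
    { toFun := fun y => y + y j • d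
      map_add' := fun a b => by simp [add_smul]; abel
      map_smul' := fun c a => by simp [mul_smul, smul_add]
      invFun := fun z => z - z j • d
      left_inv := fun y => by simp [hd]
      right_inv := fun z => by simp [hd] }
  obtain ⟨h, hh⟩ := exists_gl (LinearEquiv.funCongrLeft F F (Equiv.swap k' j) ≪≫ₗ T)
  have hinv : ∀ (z : 𝕍) (i : Fin n),
      (((h⁻¹ : GL (Fin n) F) : 𝕄) *ᵥ z) i = (z - z j • d) (Equiv.swap k' j i) := by
    intro z i
    suffices ((h⁻¹ : GL (Fin n) F) : 𝕄) *ᵥ z = fun i => (z - z j • d) (Equiv.swap k' j i) from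
      congrFun this i
    apply (glEquiv h).injective
    change (h : 𝕄) *ᵥ (((h⁻¹ : GL (Fin n) F) : 𝕄) *ᵥ z) = (h : 𝕄) *ᵥ _
    rw [mulVec_mulVec, ← Units.val_mul, mul_inv_cancel, Units.val_one, one_mulVec, hh]
    change z = T (LinearEquiv.funCongrLeft F F (Equiv.swap k' j) _)
    rw [← LinearEquiv.symm_apply_eq]
    funext l
    change (z - z j • d) l = (z - z j • d) (Equiv.swap k' j (Equiv.swap k' j l))
    rw [Equiv.swap_apply_self]
  have hmem : ∀ (m : ℕ) (z : 𝕍), (g : 𝕄) *ᵥ z ∈ flag (g * h) m ↔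
      ∀ i : Fin n, m ≤ (i : ℕ) → (z - z j • d) (Equiv.swap k' j i) = 0 := by
    intro m z
    rw [mem_flag, _root_.mul_inv_rev, Units.val_mul, mulVec_mulVec, Matrix.mul_assoc, ← Units.val_mul,
      inv_mul_cancel, Units.val_one, Matrix.mul_one]
    change (∀ i : Fin n, m ≤ (i : ℕ) → _ = 0) ↔ _
    simp only [hinv]
  refine ⟨g * h, ?_, ?_, ?_⟩
  · symm
    refine Submodule.eq_of_le_of_finrank_eq ?_ (by
      rw [finrank_flag _ (hk.trans j.2.le), finrank_flag _ (hk.trans j.2.le)])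
    rintro _ ⟨x, hx, rfl⟩
    change (g : 𝕄) *ᵥ x ∈ _
    rw [hmem]
    intro i hi
    have h0 : ∀ l : Fin n, k ≤ (l : ℕ) → (x - x j • d) l = 0 := fun l hl => by
      simp [hx l hl, hx j hk]
    apply h0
    rcases eq_or_ne i k' with rfl | h1
    · rw [Equiv.swap_apply_left]; exact hk
    rcases eq_or_ne i j with rfl | h2
    · rw [Equiv.swap_apply_right]
    · rwa [Equiv.swap_apply_of_ne_of_ne h1 h2]
  · rw [hmem]
    intro i hi
    have hik : i ≠ k' := fun h0 => by
      have : (i : ℕ) = k := congrArg Fin.val h0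
      omega
    have hne : Equiv.swap k' j i ≠ j := fun h0 => hik (by
      have := congrArg (Equiv.swap k' j) h0
      rwa [Equiv.swap_apply_self, Equiv.swap_apply_right] at this)
    simp [d, hv, hne]
  · intro z hz i hi hij
    rw [hmem] at hz
    have h1 := hz (Equiv.swap k' j i) (by
      rcases eq_or_ne i k' with rfl | h1
      · rw [Equiv.swap_apply_left]
        have : (j : ℕ) ≠ k := fun h0 => hij (Fin.ext h0).symm
        omega
      · rw [Equiv.swap_apply_of_ne_of_ne h1 hij]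
        have : (i : ℕ) ≠ k := fun h0 => h1 (Fin.ext h0)
        omega)
    rw [Equiv.swap_apply_self] at h1
    simpa [d, hij, sub_eq_zero] using h1

/-- The shift. -/
def shift (F : Type*) [Field F] (n : ℕ) : Matrix (Fin n) (Fin n) F :=
  Matrix.of fun i j => if (j : ℕ) = (i : ℕ) + 1 then 1 else 0

theorem shift_pow_mulVec (m : ℕ) (x : 𝕍) (i : Fin n) :
    ((shift F n) ^ m *ᵥ x) i = if h : (i : ℕ) + m < n then x ⟨i + m, h⟩ else 0 := by
  induction m generalizing x with
  | zero => simp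
  | succ m ih =>
    rw [pow_succ, ← mulVec_mulVec, ih]
    by_cases h : (i : ℕ) + m < n
    · rw [dif_pos h]
      change ∑ l, shift F n ⟨i + m, h⟩ l * x l = _
      by_cases h' : (i : ℕ) + (m + 1) < n
      · rw [dif_pos h', Finset.sum_eq_single ⟨i + (m + 1), h'⟩]
        · simp [shift, add_assoc]
        · intro l _ hl
          have : (l : ℕ) ≠ (i : ℕ) + (m + 1) := fun h0 => hl (Fin.ext h0)
          simp [shift, add_assoc, this]
        · simp
      · rw [dif_neg h']
        refine Finset.sum_eq_zero fun l _ => ?_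
        have : (l : ℕ) ≠ (i : ℕ) + m + 1 := by have := l.2; omega
        simp [shift, this]
    · rw [dif_neg h, dif_neg (by omega)]

theorem shift_pow_self : (shift F n) ^ n = 0 := by
  apply Matrix.toLin'.injective
  refine LinearMap.ext fun x => funext fun i => ?_
  rw [Matrix.toLin'_apply, shift_pow_mulVec, dif_neg (by omega)]
  simp

/-- A regular unipotent matrix of determinant one. -/
def regUnip (F : Type*) [Field F] (n : ℕ) : Matrix.SpecialLinearGroup (Fin n) F :=
  ⟨1 + shift F n, by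
    rw [Matrix.det_of_isUpperTriangular]
    · exact Finset.prod_eq_one fun i _ => by simp [shift]
    · intro i j hij
      have h1 : (j : ℕ) < i := hij
      have h2 : i ≠ j := fun h => by rw [h] at h1; exact lt_irrefl _ h1
      simp [shift, h2, show ¬ (j : ℕ) = (i : ℕ) + 1 by omega]⟩

/-- The regular unipotent element attached to the flag of `g`. -/
noncomputable def unipOf (g : GL (Fin n) F) : GL (Fin n) F :=
  g * Matrix.SpecialLinearGroup.toGL (regUnip F n) * g⁻¹

theorem unipOf_det (g : GL (Fin n) F) : (unipOf g : 𝕄).det = 1 := by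
  rw [unipOf, Units.val_mul, Units.val_mul, Matrix.det_units_conj]
  exact (regUnip F n).2

theorem unipOf_sub_one (g : GL (Fin n) F) :
    (unipOf g : 𝕄) - 1 = (g : 𝕄) * shift F n * ((g⁻¹ : GL (Fin n) F) : 𝕄) := by
  have : (unipOf g : 𝕄) = (g : 𝕄) * (1 + shift F n) * ((g⁻¹ : GL (Fin n) F) : 𝕄) := rfl
  rw [this, Matrix.mul_add, Matrix.mul_one, Matrix.add_mul, ← Units.val_mul, mul_inv_cancel,
    Units.val_one, add_sub_cancel_left]

theorem unipOf_sub_one_pow (g : GL (Fin n) F) : ((unipOf g : 𝕄) - 1) ^ n = 0 := by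
  rw [unipOf_sub_one, Units.conj_pow, shift_pow_self, Matrix.mul_zero, Matrix.zero_mul]

theorem unipOf_ne_one (hn : 2 ≤ n) (g : GL (Fin n) F) : unipOf g ≠ 1 := by
  intro h
  have h0 := unipOf_sub_one g
  rw [h, Units.val_one, sub_self] at h0
  have h1 : shift F n = 0 := by
    have := congrArg (fun M : 𝕄 => ((g⁻¹ : GL (Fin n) F) : 𝕄) * M * (g : 𝕄)) h0
    simpa [Matrix.mul_assoc] using this.symm
  have h2 := congrFun (congrFun h1 ⟨0, by omega⟩) ⟨1, by omega⟩
  simp [shift] at h2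

theorem unipOf_pow [Fintype F] (p : ℕ) [Fact p.Prime] [CharP F p] (g : GL (Fin n) F) :
    unipOf g ^ (p ^ n) = 1 := by
  rcases Nat.eq_zero_or_pos n with h | h
  · subst h
    exact Units.ext (Matrix.ext fun i => i.elim0)
  haveI : Nonempty (Fin n) := ⟨⟨0, h⟩⟩
  apply Units.ext
  rw [Units.val_pow_eq_pow_val, Units.val_one,
    show (unipOf g : 𝕄) = ((unipOf g : 𝕄) - 1) + 1 by rw [sub_add_cancel],
    add_pow_char_pow_of_commute (p := p) _ (Commute.one_right _), one_pow,
    pow_eq_zero_of_le (Nat.lt_pow_self (Fact.out (p := p.Prime)).one_lt).le (unipOf_sub_one_pow g),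
    zero_add]

/-- A subspace invariant under `unipOf g` is a member of the flag of `g`. -/
theorem eq_flag_of_invariant (g : GL (Fin n) F) (W : Submodule F 𝕍)
    (hW : ∀ w ∈ W, (unipOf g : 𝕄) *ᵥ w ∈ W) : W = flag g (finrank F W) := by
  have hk : finrank F W ≤ n := (Submodule.finrank_le W).trans_eq (finrank_fin_fun (R := F))
  refine Submodule.eq_of_le_of_finrank_eq ?_ (finrank_flag g hk).symm
  let D : 𝕍 →ₗ[F] 𝕍 := Matrix.toLin' ((unipOf g : 𝕄) - 1)
  have hD : ∀ w ∈ W, D w ∈ W := fun w hw => by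
    simp only [D, Matrix.toLin'_apply, Matrix.sub_mulVec, one_mulVec]
    exact W.sub_mem (hW w hw) hw
  let f : W →ₗ[F] W := D.restrict hD
  have hf : ∀ (m : ℕ) (w : W), (((f ^ m) w : W) : 𝕍) = ((unipOf g : 𝕄) - 1) ^ m *ᵥ (w : 𝕍) := by
    intro m
    induction m with
    | zero => intro w; simp
    | succ m ih =>
      intro w
      rw [pow_succ' f, Module.End.mul_apply, LinearMap.coe_restrict_apply, Matrix.toLin'_apply, ih,
        mulVec_mulVec, ← pow_succ']
  intro w hw
  have hker := Module.End.ker_pow_le_ker_pow_finrank f n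
    (show (⟨w, hw⟩ : W) ∈ LinearMap.ker (f ^ n) by
      rw [LinearMap.mem_ker]
      apply Subtype.ext
      rw [hf, unipOf_sub_one_pow, zero_mulVec]
      rfl)
  have h1 : ((unipOf g : 𝕄) - 1) ^ finrank F W *ᵥ w = 0 := by
    rw [← hf _ ⟨w, hw⟩, LinearMap.mem_ker.1 hker]
    rfl
  rw [unipOf_sub_one, Units.conj_pow, ← mulVec_mulVec, ← mulVec_mulVec] at h1
  have h2 := (glEquiv g).map_eq_zero_iff.1 h1
  rw [mem_flag]
  intro i hi
  have h3 := congrFun h2 ⟨(i : ℕ) - finrank F W, by omega⟩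
  rw [shift_pow_mulVec, dif_pos (show (i : ℕ) - finrank F W + finrank F W < n by omega)] at h3
  rw [Pi.zero_apply] at h3
  rw [← h3]
  congr 1
  exact Fin.ext (show (i : ℕ) = (i : ℕ) - finrank F W + finrank F W by omega)

end Cfsg.Agent.NilpCover
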