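import Cfsg.Agent.NilpCover.Count
import Cfsg.Agent.KnownA.PGLOrder

/-!
Groups between `PSL n F` and `PGL n F` have no minimal cover by nilpotent subgroups.
-/

set_option autoImplicit false

namespace Cfsg.Agent.NilpCover

open Matrix Module

variable {F : Type*} [Field F] [Fintype F] {n : ℕ}

local notation "𝕄" => Matrix (Fin n) (Fin n) F

/-- The stabiliser of a subspace. -/
noncomputable def stabSub (W : Submodule F (Fin n → F)) : Subgroup (GL (Fin n) F) where
  carrier := {g | ∀ w ∈ W, (g : Matrix (Fin n) (Fin n) F) *ᵥ w ∈ W}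
  mul_mem' := fun {a b} ha hb w hw => by
    rw [Units.val_mul, ← mulVec_mulVec]
    exact ha _ (hb w hw)
  one_mem' := fun w hw => by simpa using hw
  inv_mem' := fun {g} hg => by
    have h : g⁻¹ = g ^ (orderOf g - 1) := by
      refine inv_eq_of_mul_eq_one_right ?_
      rw [← pow_succ', Nat.sub_add_cancel (orderOf_pos g), pow_orderOf_eq_one]
    simp only [Set.mem_ofPred_eq] at *
    rw [h, Units.val_pow_eq_pow_val]
    induction orderOf g - 1 with
    | zero => intro w hw; simpa using hw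
    | succ m ih => intro w hw; rw [pow_succ, ← mulVec_mulVec]; exact ih _ (hg w hw)

theorem center_le_torus (A : Subalgebra F (Matrix (Fin n) (Fin n) F)) :
    Subgroup.center (GL (Fin n) F) ≤ torus A := fun g hg => by
  obtain ⟨c, hc⟩ := Cfsg.Agent.KnownA.gl_center_scalar g hg
  rw [mem_torus, hc]
  exact A.algebraMap_mem c

theorem center_le_stabSub (W : Submodule F (Fin n → F)) :
    Subgroup.center (GL (Fin n) F) ≤ stabSub W := fun g hg w hw => by
  obtain ⟨c, hc⟩ := Cfsg.Agent.KnownA.gl_center_scalar g hg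
  rw [hc, show scalar (Fin n) c *ᵥ w = c • w by ext i; simp [mulVec_diagonal]]
  exact W.smul_mem c hw

/-- A small subspace is moved by an element of determinant one. -/
theorem exists_not_mem_stabSub (W : Submodule F (Fin n → F)) (h1 : 1 ≤ finrank F W)
    (h2 : finrank F W < n) : ∃ t : GL (Fin n) F, (t : 𝕄).det = 1 ∧ t ∉ stabSub W := by
  obtain ⟨g, hg⟩ := exists_flag_eq W
  let i : Fin n := ⟨finrank F W, h2⟩
  let i0 : Fin n := ⟨0, by omega⟩
  have hne : i ≠ i0 := fun h => by
    have : finrank F W = 0 := congrArg Fin.val h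
    omega
  let T : Matrix.SpecialLinearGroup (Fin n) F :=
    ⟨transvection i i0 1, det_transvection_of_ne i i0 hne 1⟩
  refine ⟨g * Matrix.SpecialLinearGroup.toGL T * g⁻¹, ?_, fun hmem => ?_⟩
  · rw [Units.val_mul, Units.val_mul, Matrix.det_units_conj]
    exact T.2
  · let e0 : Fin n → F := Pi.single i0 1
    have he : (g : 𝕄) *ᵥ e0 ∈ W := by
      rw [← hg, mem_flag, mulVec_mulVec, ← Units.val_mul, inv_mul_cancel, Units.val_one, one_mulVec]
      intro l hl
      have : l ≠ i0 := fun h => by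
        have : (l : ℕ) = 0 := congrArg Fin.val h
        omega
      simp [e0, this]
    have h3 := hmem _ he
    rw [← hg, mem_flag, Units.val_mul, Units.val_mul, mulVec_mulVec, mulVec_mulVec] at h3
    rw [← Units.val_mul, ← Units.val_mul, ← Units.val_mul, ← Units.val_mul,
      show g⁻¹ * (g * Matrix.SpecialLinearGroup.toGL T * g⁻¹) * g = Matrix.SpecialLinearGroup.toGL T by
        group] at h3
    change transvection i i0 1 *ᵥ e0 ∈ _ at h3
    have h4 := h3 i le_rfl
    simp [e0, transvection, hne, add_mulVec, Pi.single_apply] at h4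

/-- A maximal subfield misses an element of determinant one. -/
theorem exists_not_mem_torus (hn : 2 ≤ n) {A : Subalgebra F (Matrix (Fin n) (Fin n) F)}
    (h : IsSinger A) : ∃ t : GL (Fin n) F, (t : 𝕄).det = 1 ∧ t ∉ torus A := by
  let i : Fin n := ⟨0, by omega⟩
  let j : Fin n := ⟨1, by omega⟩
  have hij : i ≠ j := fun h => by simp [i, j, Fin.ext_iff] at h
  by_contra hcon
  push Not at hcon
  let T₁ : Matrix.SpecialLinearGroup (Fin n) F := ⟨transvection i j 1, det_transvection_of_ne i j hij 1⟩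
  let T₂ : Matrix.SpecialLinearGroup (Fin n) F :=
    ⟨transvection j i 1, det_transvection_of_ne j i hij.symm 1⟩
  have h1 : transvection i j (1 : F) * transvection j i 1 = transvection j i 1 * transvection i j 1 :=
    h.comm _ (hcon (Matrix.SpecialLinearGroup.toGL T₁) T₁.2) _
      (hcon (Matrix.SpecialLinearGroup.toGL T₂) T₂.2)
  have h2 := congrFun (congrFun h1 i) i
  simp [transvection, Matrix.add_mul, Matrix.mul_add, hij, hij.symm] at h2

/-- No minimal cover of a group between `PSL n F` and `PGL n F` consists of nilpotent subgroups. -/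
theorem no_nilpotent_minimal_cover (hn : 3 ≤ n ∨ (n = 2 ∧ 4 ≤ Fintype.card F))
    (G : Subgroup (GL (Fin n) F ⧸ Subgroup.center (GL (Fin n) F)))
    (hG : ((Matrix.SpecialLinearGroup.toGL : Matrix.SpecialLinearGroup (Fin n) F →* GL (Fin n) F).range).map
      (QuotientGroup.mk' (Subgroup.center (GL (Fin n) F))) ≤ G)
    (𝓐 : Finset (Subgroup G)) (hcover : ∀ g : G, ∃ A ∈ 𝓐, g ∈ A)
    (hmin : ∀ 𝓑 : Finset (Subgroup G), (∀ A ∈ 𝓑, A ≠ ⊤) ∧ (∀ g : G, ∃ A ∈ 𝓑, g ∈ A) →
      𝓐.card ≤ 𝓑.card)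
    (hnil : ∀ A ∈ 𝓐, Group.IsNilpotent A) : False := by
  classical
  have hn2 : 2 ≤ n := by rcases hn with h | h <;> omega
  have hex : n = 2 → 4 ≤ Fintype.card F := fun h => by rcases hn with h' | h' <;> omega
  set π := QuotientGroup.mk' (Subgroup.center (GL (Fin n) F)) with hπ
  haveI := finite_flags (F := F) (n := n)
  haveI := finite_small (F := F) (n := n)
  haveI : Finite {A : Subalgebra F (Matrix (Fin n) (Fin n) F) // IsSinger A} :=
    haveI : Finite (Subalgebra F (Matrix (Fin n) (Fin n) F)) :=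
      Finite.of_injective (fun A : Subalgebra F (Matrix (Fin n) (Fin n) F) =>
        (A : Set (Matrix (Fin n) (Fin n) F))) SetLike.coe_injective
    inferInstance
  letI : Fintype {A : Subalgebra F (Matrix (Fin n) (Fin n) F) // IsSinger A} := Fintype.ofFinite _
  letI : Fintype (Small F n) := Fintype.ofFinite _
  have hdet : ∀ t : GL (Fin n) F, (t : 𝕄).det = 1 → π t ∈ G := fun t ht =>
    hG ⟨t, ⟨⟨(t : 𝕄), ht⟩, Units.ext rfl⟩, rfl⟩
  -- the upper bound
  let member : Subgroup (GL (Fin n) F) → Subgroup G := fun K => (K.map π).subgroupOf G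
  have hmemK : ∀ (K : Subgroup (GL (Fin n) F)), Subgroup.center (GL (Fin n) F) ≤ K →
      ∀ t, π t ∈ K.map π → t ∈ K := by
    intro K hK t ht
    obtain ⟨y, hy, hyt⟩ := ht
    have h1 : y⁻¹ * t ∈ Subgroup.center (GL (Fin n) F) := by
      rw [← QuotientGroup.eq]
      exact hyt
    have := K.mul_mem hy (hK h1)
    rwa [mul_inv_cancel_left] at this
  have hproper : ∀ K : Subgroup (GL (Fin n) F), Subgroup.center (GL (Fin n) F) ≤ K →
      (∃ t : GL (Fin n) F, (t : 𝕄).det = 1 ∧ t ∉ K) → member K ≠ ⊤ := by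
    rintro K hK ⟨t, ht, htK⟩ h0
    have h1 : (⟨π t, hdet t ht⟩ : G) ∈ member K := by rw [h0]; trivial
    exact htK (hmemK K hK t (Subgroup.mem_subgroupOf.1 h1))
  let 𝓑 : Finset (Subgroup G) := (Finset.univ : Finset
    ({A : Subalgebra F (Matrix (Fin n) (Fin n) F) // IsSinger A} ⊕ Small F n)).image
      (Sum.elim (fun A => member (torus A.1)) (fun W => member (stabSub W.1)))
  have hB1 : ∀ A ∈ 𝓑, A ≠ ⊤ := by
    intro A hA
    obtain ⟨x, -, rfl⟩ := Finset.mem_image.1 hA
    rcases x with ⟨A, hA'⟩ | ⟨W, hW1, hW2⟩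
    · exact hproper _ (center_le_torus A) (exists_not_mem_torus hn2 hA')
    · exact hproper _ (center_le_stabSub W) (exists_not_mem_stabSub W hW1 (by omega))
  have hB2 : ∀ g : G, ∃ A ∈ 𝓑, g ∈ A := by
    rintro ⟨g, hg⟩
    obtain ⟨x, rfl⟩ := QuotientGroup.mk'_surjective _ g
    by_cases hW : ∃ W : Submodule F (Fin n → F), 1 ≤ finrank F W ∧ 2 * finrank F W ≤ n ∧
        x ∈ stabSub W
    · obtain ⟨W, h1, h2, h3⟩ := hW
      exact ⟨member (stabSub W), Finset.mem_image.2 ⟨Sum.inr ⟨W, h1, h2⟩, Finset.mem_univ _, rfl⟩,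
        Subgroup.mem_subgroupOf.2 ⟨x, h3, rfl⟩⟩
    · obtain ⟨A, hA, hxA⟩ := exists_singer (by omega) (x : 𝕄) (fun W hW0 hinv => by
        by_contra hle
        exact hW ⟨W, Submodule.one_le_finrank_iff.2 hW0, by omega, hinv⟩)
      exact ⟨member (torus A), Finset.mem_image.2 ⟨Sum.inl ⟨A, hA⟩, Finset.mem_univ _, rfl⟩,
        Subgroup.mem_subgroupOf.2 ⟨x, hxA, rfl⟩⟩
  have hub : 𝓐.card ≤ Nat.card {A : Subalgebra F (Matrix (Fin n) (Fin n) F) // IsSinger A}
      + Nat.card (Small F n) := by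
    refine (hmin 𝓑 ⟨hB1, hB2⟩).trans (Finset.card_image_le.trans (le_of_eq ?_))
    rw [Finset.card_univ, Fintype.card_sum, Nat.card_eq_fintype_card, Nat.card_eq_fintype_card]
  -- the lower bound
  let pre : Subgroup G → Subgroup (GL (Fin n) F) := fun A => (A.map G.subtype).comap π
  have hpre : ∀ A ∈ 𝓐, Group.IsNilpotent (pre A) := by
    intro A hA
    haveI := hnil A hA
    haveI : Group.IsNilpotent (A.map G.subtype) :=
      Group.nilpotent_of_mulEquiv (A.equivMapOfInjective G.subtype Subtype.val_injective)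
    refine Subgroup.isNilpotent_of_ker_le_center
      ((π.comp (pre A).subtype).codRestrict (A.map G.subtype) fun x => x.2) ?_
    intro x hx
    have h1 : π (x : GL (Fin n) F) = 1 := congrArg Subtype.val hx
    rw [Subgroup.mem_center_iff]
    intro y
    exact Subtype.ext (Subgroup.mem_center_iff.1 ((QuotientGroup.eq_one_iff _).1 h1) _)
  have hpick : ∀ t : GL (Fin n) F, (t : 𝕄).det = 1 → ∃ A ∈ 𝓐, t ∈ pre A := by
    intro t ht
    obtain ⟨A, hA, hmem⟩ := hcover ⟨π t, hdet t ht⟩
    exact ⟨A, hA, ⟨_, hmem, rfl⟩⟩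
  choose s hs using fun A : {A : Subalgebra F (Matrix (Fin n) (Fin n) F) // IsSinger A} =>
    exists_isGen hn2 A.2
  choose g hg using fun f : Flags F n => f.2
  choose cs hcsm hcs using fun A => hpick (s A) (hs A).det
  choose cu hcum hcu using fun f : Flags F n => hpick (unipOf (g f)) (unipOf_det _)
  have hss : ∀ A A', cs A = cs A' → A = A' := fun A A' h => by
    haveI := hpre _ (hcsm A)
    exact Subtype.ext (singer_eq_of_nilpotent hn2 hex (hs A) (hs A') (pre (cs A)) (hcs A)
      (h ▸ hcs A'))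
  have hsu : ∀ A f, cs A ≠ cu f := fun A f h => by
    haveI := hpre _ (hcsm A)
    exact not_singer_unipotent hn2 (hs A) (g f) (pre (cs A)) (hcs A) (h ▸ hcu f)
  have huu : ∀ f f', cu f = cu f' → f = f' := fun f f' h => by
    haveI := hpre _ (hcum f)
    apply Subtype.ext
    rw [← hg f, ← hg f']
    exact flag_eq_of_nilpotent (g f) (g f') (pre (cu f)) (hcu f) (h ▸ hcu f')
  let Φ : {A : Subalgebra F (Matrix (Fin n) (Fin n) F) // IsSinger A} ⊕ Flags F n → 𝓐 :=
    Sum.elim (fun A => ⟨cs A, hcsm A⟩) (fun f => ⟨cu f, hcum f⟩)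
  have hΦ : Function.Injective Φ := by
    rintro (A | f) (A' | f') h <;> have h' := congrArg Subtype.val h <;> simp [Φ] at h'
    · rw [hss _ _ h']
    · exact absurd h' (hsu _ _)
    · exact absurd h'.symm (hsu _ _)
    · rw [huu _ _ h']
  rcases hn with h3 | ⟨rfl, h4⟩
  · have h1 := Nat.card_le_card_of_injective Φ hΦ
    rw [Nat.card_sum, Nat.card_eq_finsetCard] at h1
    have := small_lt_flags (F := F) h3
    omega
  · obtain ⟨a, hadet, hau, has⟩ := exists_extra h4
    obtain ⟨Aa, hAam, hAa⟩ := hpick a hadet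
    have hnot : ∀ x, Φ x ≠ ⟨Aa, hAam⟩ := by
      rintro (A | f) h <;> have h' := congrArg Subtype.val h <;> simp [Φ] at h'
      · exact has A.1 (s A) (hs A) _ (hpre _ hAam) hAa (h' ▸ hcs A)
      · exact hau (g f) _ (hpre _ hAam) hAa (h' ▸ hcu f)
    have h1 := Nat.card_le_card_of_injective (Sum.elim Φ (fun _ : Unit => (⟨Aa, hAam⟩ : 𝓐)))
      (hΦ.sumElim (fun _ _ _ => rfl) fun x _ => hnot x)
    rw [Nat.card_sum, Nat.card_sum, Nat.card_eq_finsetCard, Nat.card_unique (α := Unit)] at h1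
    have := small_le_flags_two (F := F)
    omega

end Cfsg.Agent.NilpCover
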