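import Mathlib

/-!
Arithmetic of the number `1 + q + ... + q^(n-1)`.
-/

set_option autoImplicit false

namespace Cfsg.Agent.NilpCover

open Finset

/-- `1 + q + ... + q^(n-1)`. -/
def repunit (q n : ℕ) : ℕ := ∑ i ∈ range n, q ^ i

theorem repunit_mul {q : ℕ} (hq : 1 ≤ q) (n : ℕ) : (q - 1) * repunit q n = q ^ n - 1 := by
  have h := geom_sum_mul_add (q - 1) n
  rw [Nat.sub_add_cancel hq] at h
  unfold repunit
  rw [← h, Nat.add_sub_cancel, mul_comm]

theorem repunit_dvd_pow_sub {q : ℕ} (hq : 1 ≤ q) (n : ℕ) : repunit q n ∣ q ^ n - 1 :=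
  ⟨q - 1, by rw [mul_comm, repunit_mul hq]⟩

theorem pow_lt_repunit {q n : ℕ} (hn : 2 ≤ n) : q ^ (n - 1) < repunit q n := by
  obtain ⟨m, rfl⟩ := Nat.exists_eq_add_of_le hn
  rw [repunit, show 2 + m - 1 = m + 1 by omega, show 2 + m = m + 2 by omega, sum_range_succ]
  have h0 : 0 < ∑ i ∈ range (m + 1), q ^ i := by
    rw [sum_range_succ']
    simp
  omega

theorem gcd_dvd_proper {n j : ℕ} (hj : 0 < j) (hjn : j < n) :
    Nat.gcd j n ∣ n ∧ 2 * Nat.gcd j n ≤ n := by
  have hd := Nat.gcd_dvd_right j n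
  have hle : Nat.gcd j n ≤ j := Nat.le_of_dvd hj (Nat.gcd_dvd_left j n)
  obtain ⟨c, hc⟩ := hd
  refine ⟨Nat.gcd_dvd_right j n, ?_⟩
  rcases c with _ | _ | c
  · omega
  · omega
  · calc 2 * Nat.gcd j n ≤ Nat.gcd j n * (c + 2) := by rw [mul_comm]; exact Nat.mul_le_mul_left _ (by omega)
      _ = n := hc.symm

/-- A semilinear projective commutation is impossible. -/
theorem not_repunit_dvd {q n j : ℕ} (hq : 2 ≤ q) (hn : 2 ≤ n) (hex : n = 2 → 4 ≤ q) (hj : 0 < j)
    (hjn : j < n) : ¬ repunit q n ∣ (q - 1) * (q ^ j - 1) := by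
  intro h
  obtain ⟨-, hd2⟩ := gcd_dvd_proper hj hjn
  set d := Nat.gcd j n with hd
  have h2 : repunit q n ∣ (q - 1) * (q ^ d - 1) := by
    have h3 := Nat.dvd_gcd h ((repunit_dvd_pow_sub (by omega) n).mul_left (q - 1))
    rwa [Nat.gcd_mul_left, Nat.pow_sub_one_gcd_pow_sub_one] at h3
  have hd1 : 1 ≤ d := Nat.gcd_pos_of_pos_left _ hj
  by_cases h22 : n = 2
  · subst h22
    have hd' : d = 1 := by omega
    rw [hd', pow_one, repunit, sum_range_succ, sum_range_one, pow_zero, pow_one] at h2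
    obtain ⟨c, rfl⟩ : ∃ c, q = c + 4 := ⟨q - 4, by have := hex rfl; omega⟩
    have h4 : 1 + (c + 4) ∣ 4 := by
      have e : (c + 4 - 1) * (c + 4 - 1) = (1 + (c + 4)) * (c + 1) + 4 := by
        rw [show c + 4 - 1 = c + 3 by omega]; ring
      rw [e] at h2
      exact (Nat.dvd_add_right (dvd_mul_right _ _)).1 h2
    have := Nat.le_of_dvd (by norm_num) h4
    omega
  · have hlt := pow_lt_repunit (q := q) hn
    have hpos : 0 < (q - 1) * (q ^ d - 1) :=
      Nat.mul_pos (by omega) (by have := Nat.one_lt_pow (show d ≠ 0 by omega) (show 1 < q by omega); omega)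
    have h5 := Nat.le_of_dvd hpos h2
    have h6 : (q - 1) * (q ^ d - 1) ≤ q ^ (d + 1) := by
      rw [pow_succ, mul_comm]
      exact Nat.mul_le_mul (Nat.sub_le _ _) (Nat.sub_le _ _)
    have h7 : q ^ (d + 1) ≤ q ^ (n - 1) := Nat.pow_le_pow_right (by omega) (by omega)
    omega

theorem repunit_mul_split {q : ℕ} (hq : 2 ≤ q) (m r : ℕ) :
    repunit (q ^ m) r ∣ repunit q (m * r) := by
  refine Dvd.intro_left (repunit q m) ?_
  have h1 : 0 < q - 1 := by omega
  apply Nat.eq_of_mul_eq_mul_left h1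
  rw [repunit_mul (by omega), ← mul_assoc, repunit_mul (by omega),
    repunit_mul (Nat.one_le_pow _ _ (by omega)), pow_mul]

theorem repunit_mod (Q r l : ℕ) (h : (Q : ZMod l) = 1) : (repunit Q r : ZMod l) = r := by
  simp [repunit, h]

/-- All prime divisors of the repunit dividing `q^j - 1` forces `n = 2` and `q` Mersenne. -/
theorem mersenne_of_dvd {q n j m : ℕ} (hq : 2 ≤ q) (hn : 2 ≤ n) (hj : 0 < j) (hjn : j < n)
    (h : repunit q n ∣ (q - 1) * (q ^ j - 1) ^ m) : n = 2 ∧ ∃ e, q + 1 = 2 ^ e := by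
  obtain ⟨hdn, hd2⟩ := gcd_dvd_proper hj hjn
  set d := Nat.gcd j n with hd
  obtain ⟨c, hc⟩ := hdn
  have hd1 : 1 ≤ d := Nat.gcd_pos_of_pos_left _ hj
  have hc2 : 2 ≤ c := by
    rcases c with _ | _ | c <;> (try simp at hc) <;> omega
  obtain ⟨r, hr, c', rfl⟩ := Nat.exists_prime_and_dvd (show c ≠ 1 by omega)
  have hn' : n = (d * c') * r := by rw [hc]; ring
  set Q := q ^ (d * c') with hQ
  have hc' : 0 < c' := Nat.pos_of_ne_zero (by rintro rfl; simp at hc2)
  have hm0 : d * c' ≠ 0 := by positivity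
  have hQ2 : 2 ≤ Q := hq.trans (Nat.le_self_pow hm0 q)
  set W := repunit Q r with hW
  have hWN : W ∣ repunit q n := by rw [hn']; exact repunit_mul_split hq _ _
  have hrW : r < W := by
    have h1 : Q ^ (r - 1) < W := pow_lt_repunit hr.two_le
    have h2 : r - 1 < Q ^ (r - 1) := Nat.lt_pow_self (by omega)
    omega
  -- every prime divisor of `W` is `r`
  have hl : ∀ l : ℕ, l.Prime → l ∣ W → l = r ∧ (Q : ZMod l) = 1 := by
    intro l hl hlW
    haveI := Fact.mk hl
    have h1 : l ∣ (q - 1) * (q ^ j - 1) ^ m := hlW.trans (hWN.trans h)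
    have h2 : l ∣ q ^ j - 1 := by
      rcases hl.dvd_mul.1 h1 with h1 | h1
      · exact h1.trans (by simpa using Nat.sub_dvd_pow_sub_pow q 1 j)
      · exact hl.dvd_of_dvd_pow h1
    have h3 : l ∣ q ^ d - 1 := by
      rw [hd, ← Nat.pow_sub_one_gcd_pow_sub_one]
      exact Nat.dvd_gcd h2 (hlW.trans (hWN.trans (repunit_dvd_pow_sub (by omega) n)))
    have h4 : l ∣ Q - 1 := h3.trans (by
      rw [hQ, pow_mul]
      simpa using Nat.sub_dvd_pow_sub_pow (q ^ d) 1 c')
    have h5 : (Q : ZMod l) = 1 := by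
      have := (ZMod.natCast_eq_zero_iff _ l).2 h4
      rwa [Nat.cast_sub (by omega), Nat.cast_one, sub_eq_zero] at this
    refine ⟨?_, h5⟩
    have h6 : ((r : ℕ) : ZMod l) = 0 := by
      rw [← repunit_mod Q r l h5, ← hW]
      exact (ZMod.natCast_eq_zero_iff _ l).2 hlW
    exact ((Nat.prime_dvd_prime_iff_eq hl hr).1 ((ZMod.natCast_eq_zero_iff _ l).1 h6))
  obtain ⟨e, he⟩ : ∃ e, W = r ^ e :=
    ⟨_, Nat.eq_prime_pow_of_unique_prime_dvd (by omega) fun {l} hl' hl'' => (hl l hl' hl'').1⟩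
  have hQr : (Q : ZMod r) = 1 := (hl r hr (by
    rw [he]
    apply dvd_pow_self
    rintro rfl
    simp at he
    have := hr.two_le
    omega)).2
  rcases hr.eq_two_or_odd' with rfl | hodd
  · have hW2 : Q + 1 = 2 ^ e := by
      rw [← he, hW]
      simp [repunit, sum_range_succ]
      omega
    set m' := d * c' with hm'
    by_cases hm1 : m' = 1
    · refine ⟨by omega, e, ?_⟩
      rw [← hW2, hQ, hm1, pow_one]
    exfalso
    have hqodd : Odd q := by
      rcases Nat.even_or_odd q with hev | ho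
      · exfalso
        have h7 : Even Q := by rw [hQ]; exact (Nat.even_pow' hm0).2 hev
        rw [(ZMod.natCast_eq_zero_iff Q 2).2 h7.two_dvd] at hQr
        exact zero_ne_one hQr
      · exact ho
    have he2 : 2 ≤ e := by
      by_contra hlt
      have := Nat.pow_le_pow_right (show 0 < 2 by norm_num) (show e ≤ 1 by omega)
      omega
    rcases Nat.even_or_odd m' with ⟨k, hk⟩ | hmo
    · have h4 : (2 : ℕ) ^ e % 4 = 0 := by
        obtain ⟨e', rfl⟩ := Nat.exists_eq_add_of_le he2
        rw [pow_add]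
        omega
      obtain ⟨t, ht⟩ := hqodd.pow (n := k)
      have h8 : Q = (2 * t + 1) * (2 * t + 1) := by rw [hQ, hk, pow_add, ht]
      have h9 : (2 * t + 1) * (2 * t + 1) = 4 * (t * t + t) + 1 := by ring
      omega
    · -- the cofactor of `q + 1` is odd
      set C : ℤ := ∑ i ∈ range m', (-(q : ℤ)) ^ i with hC
      have hCmul : C * ((q : ℤ) + 1) = (2 : ℤ) ^ e := by
        have h1 := geom_sum_mul (-(q : ℤ)) m'
        rw [hmo.neg_pow, ← hC] at h1
        have h2 : ((Q : ℤ) + 1) = (2 : ℤ) ^ e := by exact_mod_cast hW2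
        rw [← h2, hQ]
        push_cast
        linarith
      have hCodd : Odd C := by
        rw [← Int.not_even_iff_odd]
        intro hev
        have h1 := (ZMod.intCast_eq_zero_iff_even).2 hev
        rw [hC] at h1
        push_cast at h1
        have hq1 : ((q : ℕ) : ZMod 2) = 1 := ZMod.natCast_eq_one_iff_odd.2 hqodd
        rw [hq1, show (-1 : ZMod 2) = 1 by decide] at h1
        simp only [one_pow, sum_const, card_range, nsmul_eq_mul, mul_one] at h1
        rw [ZMod.natCast_eq_one_iff_odd.2 hmo] at h1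
        exact one_ne_zero h1
      have hC1 : C.natAbs = 1 := by
        have h1 : C.natAbs ∣ 2 ^ e := by
          refine ⟨(((q : ℤ) + 1)).natAbs, ?_⟩
          rw [← Int.natAbs_mul, hCmul, Int.natAbs_pow]
          rfl
        obtain ⟨i, -, hi⟩ := (Nat.dvd_prime_pow Nat.prime_two).1 h1
        rcases i with _ | i
        · simpa using hi
        · have h3 := Int.natAbs_odd.2 hCodd
          rw [hi, pow_succ] at h3
          simp [Nat.odd_mul] at h3
          exact absurd h3.2 (by decide)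
      have h2 := congrArg Int.natAbs hCmul
      rw [Int.natAbs_mul, hC1, one_mul, Int.natAbs_pow] at h2
      rw [show ((q : ℤ) + 1) = ((q + 1 : ℕ) : ℤ) by push_cast; rfl, Int.natAbs_natCast] at h2
      have h10 : q + 1 = 2 ^ e := h2
      have h11 : q < Q := by
        rw [hQ]
        calc q = q ^ 1 := (pow_one q).symm
          _ < q ^ m' := Nat.pow_lt_pow_right (by omega) (by omega)
      omega
  · exfalso
    obtain ⟨t, ht⟩ : r ∣ Q - 1 := by
      rw [← ZMod.natCast_eq_zero_iff, Nat.cast_sub (by omega), hQr, Nat.cast_one, sub_self]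
    have hQt : ((Q : ℕ) : ZMod (r ^ 2)) = 1 + (r : ZMod (r ^ 2)) * t := by
      rw [show Q = r * t + 1 by omega]; push_cast; ring
    have hrr : (r : ZMod (r ^ 2)) * r = 0 := by
      rw [← Nat.cast_mul, ← sq, ZMod.natCast_self]
    have hpow : ∀ i : ℕ, (1 + (r : ZMod (r ^ 2)) * t) ^ i = 1 + i * (r * t) := by
      intro i
      induction i with
      | zero => simp
      | succ i ih =>
        rw [pow_succ (1 + (r : ZMod (r ^ 2)) * t) i, ih]
        push_cast
        linear_combination ((i : ZMod (r ^ 2)) * (t : ZMod (r ^ 2)) * t) * hrr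
    have hsum : (W : ZMod (r ^ 2)) = r := by
      rw [hW, repunit]
      push_cast
      simp only [hQt, hpow, sum_add_distrib, sum_const, card_range, nsmul_eq_mul, mul_one,
        ← sum_mul]
      rw [← Nat.cast_sum, sum_range_id]
      obtain ⟨k, hk⟩ := hodd
      have h12 : r * (r - 1) / 2 = r * k := by
        rw [hk, show 2 * k + 1 - 1 = k * 2 by omega, ← mul_assoc, Nat.mul_div_cancel _ (by norm_num)]
      rw [h12]
      push_cast
      linear_combination ((k : ZMod (r ^ 2)) * t) * hrr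
    rcases e with _ | _ | e
    · rw [pow_zero] at he
      have := hr.two_le
      omega
    · simp only [zero_add, pow_one] at he
      omega
    · have h13 : ((W : ℕ) : ZMod (r ^ 2)) = 0 := by
        rw [ZMod.natCast_eq_zero_iff, he]
        exact pow_dvd_pow r (by omega)
      rw [h13] at hsum
      have h14 := (ZMod.natCast_eq_zero_iff r (r ^ 2)).1 hsum.symm
      have h15 := Nat.le_of_dvd hr.pos h14
      have h16 := Nat.pow_lt_pow_right hr.one_lt (show 1 < 2 by norm_num)
      rw [pow_one] at h16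
      omega

end Cfsg.Agent.NilpCover
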