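import Cfsg.Agent.NilpCover.Torus
import Cfsg.Agent.NilpCover.Flag
import Cfsg.Agent.OddLocal.Basic

/-!
Which of the chosen representatives can share a nilpotent subgroup of `GL n F`.
-/

set_option autoImplicit false

namespace Cfsg.Agent.NilpCover

open Matrix Module
open scoped commutatorElement

variable {F : Type*} [Field F] [Fintype F] {n : ℕ}

local notation "𝕄" => Matrix (Fin n) (Fin n) F
local notation "𝕢" => Fintype.card F

/-- The invertible elements of a subalgebra. -/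
noncomputable def torus (A : Subalgebra F (Matrix (Fin n) (Fin n) F)) : Subgroup (GL (Fin n) F) where
  carrier := {g | (g : Matrix (Fin n) (Fin n) F) ∈ A}
  mul_mem' := fun {a b} ha hb => by
    simp only [Set.mem_ofPred_eq, Units.val_mul] at *
    exact A.mul_mem ha hb
  one_mem' := by simp [A.one_mem]
  inv_mem' := fun {g} hg => by
    have h : g⁻¹ = g ^ (orderOf g - 1) := by
      refine inv_eq_of_mul_eq_one_right ?_
      rw [← pow_succ', Nat.sub_add_cancel (orderOf_pos g), pow_orderOf_eq_one]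
    simp only [Set.mem_ofPred_eq] at *
    rw [h, Units.val_pow_eq_pow_val]
    exact A.pow_mem hg _

theorem mem_torus {A : Subalgebra F (Matrix (Fin n) (Fin n) F)} {g : GL (Fin n) F} :
    g ∈ torus A ↔ (g : 𝕄) ∈ A := Iff.rfl

/-- A chosen generator of the kernel of the norm of a maximal subfield. -/
structure IsGen (A : Subalgebra F (Matrix (Fin n) (Fin n) F)) (s : GL (Fin n) F) : Prop where
  singer : IsSinger A
  mem : (s : Matrix (Fin n) (Fin n) F) ∈ A
  det : (s : Matrix (Fin n) (Fin n) F).det = 1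
  pow : s ^ repunit (Fintype.card F) n = 1
  min : ∀ B : Subalgebra F (Matrix (Fin n) (Fin n) F),
    (s : Matrix (Fin n) (Fin n) F) ∈ B → B ≤ A → B = A
  ord : ∀ (k : ℕ) (z : F), (s : Matrix (Fin n) (Fin n) F) ^ k = scalar (Fin n) z →
    repunit (Fintype.card F) n ∣ (Fintype.card F - 1) * k

theorem exists_isGen (hn : 2 ≤ n) {A : Subalgebra F (Matrix (Fin n) (Fin n) F)} (h : IsSinger A) :
    ∃ s, IsGen A s := by
  obtain ⟨s, h1, h2, h3, h4, h5⟩ := h.exists_gen hn
  exact ⟨s, h, h1, h2, h3, h4, h5⟩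

/-- Conjugation as an algebra map. -/
noncomputable def conjHom (g : GL (Fin n) F) :
    Matrix (Fin n) (Fin n) F →ₐ[F] Matrix (Fin n) (Fin n) F where
  toFun := fun a => (g : 𝕄) * a * ((g⁻¹ : GL (Fin n) F) : 𝕄)
  map_one' := by simp
  map_mul' := fun a b => by simp [mul_assoc]
  map_zero' := by simp
  map_add' := fun a b => by simp [mul_add, add_mul]
  commutes' := fun c => by
    rw [← Algebra.commutes, mul_assoc, Units.mul_inv, mul_one]

namespace IsGen

variable {A : Subalgebra F (Matrix (Fin n) (Fin n) F)} {s : GL (Fin n) F}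

theorem normalizes (h : IsGen A s) (g : GL (Fin n) F)
    (hg : ((g * s * g⁻¹ : GL (Fin n) F) : 𝕄) ∈ A) :
    ∀ a ∈ A, (g : 𝕄) * a * ((g⁻¹ : GL (Fin n) F) : 𝕄) ∈ A := by
  intro a ha
  have hB : A ⊓ A.comap (conjHom g) = A :=
    h.min _ ⟨h.mem, by simpa [conjHom] using hg⟩ inf_le_left
  rw [← hB] at ha
  exact ha.2

theorem mem_of_commute (h : IsGen A s) (hn : 0 < n) (x : 𝕄) (hx : x * (s : 𝕄) = (s : 𝕄) * x) :
    x ∈ A := by
  refine h.singer.commutant hn x fun a ha => ?_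
  have hB : A ⊓ Subalgebra.centralizer F {x} = A := by
    refine h.min _ ⟨h.mem, ?_⟩ inf_le_left
    show (s : 𝕄) ∈ Subalgebra.centralizer F {x}
    rw [Subalgebra.mem_centralizer_iff]
    rintro y rfl
    exact hx
  rw [← hB] at ha
  exact Subalgebra.mem_centralizer_iff F |>.1 ha.2 x rfl

theorem mem_of_fix (h : IsGen A s) (hn : 0 < n) (g : GL (Fin n) F)
    (hg : g * s * g⁻¹ = s) : (g : 𝕄) ∈ A := by
  refine h.mem_of_commute hn _ ?_
  rw [← Units.val_mul, ← Units.val_mul]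
  exact congrArg Units.val (mul_inv_eq_iff_eq_mul.1 hg)

/-- Projective commutation with a generator is commutation. -/
theorem mem_of_proj_commute (h : IsGen A s) (hn : 2 ≤ n) (hex : n = 2 → 4 ≤ 𝕢) (z : GL (Fin n) F)
    (c : F) (hz : ((z * s * z⁻¹ : GL (Fin n) F) : 𝕄) = scalar (Fin n) c * (s : 𝕄)) :
    (z : 𝕄) ∈ A := by
  have hq : 2 ≤ 𝕢 := Fintype.one_lt_card
  have hc : ((z * s * z⁻¹ : GL (Fin n) F) : 𝕄) ∈ A := by
    rw [hz]
    exact A.mul_mem (A.algebraMap_mem c) h.mem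
  obtain ⟨j, hjn, hj⟩ := h.singer.exists_frobenius (by omega) z (h.normalizes z hc)
  have h1 := hj _ h.mem
  rw [← Units.val_mul, ← Units.val_mul] at h1
  rcases Nat.eq_zero_or_pos j with rfl | hj0
  · rw [pow_zero, pow_one] at h1
    exact h.mem_of_fix (by omega) z (Units.ext h1)
  exfalso
  rw [hz] at h1
  have h2 : (s : 𝕄) ^ (𝕢 ^ j - 1) = scalar (Fin n) c := by
    refine s.isUnit.mul_left_injective ?_
    change (s : 𝕄) ^ (𝕢 ^ j - 1) * (s : 𝕄) = scalar (Fin n) c * (s : 𝕄)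
    rw [h1, ← pow_succ, Nat.sub_add_cancel (Nat.one_le_pow _ _ (by omega))]
  exact not_repunit_dvd hq hn hex hj0 hjn (h.ord _ c h2)

/-- A nilpotent group containing a generator lies in the torus, apart from Mersenne exceptions. -/
theorem le_torus_or (h : IsGen A s) (hn : 2 ≤ n) (H : Subgroup (GL (Fin n) F))
    [Group.IsNilpotent H] (hs : s ∈ H) :
    H ≤ torus A ∨ (n = 2 ∧ ∃ e, 𝕢 + 1 = 2 ^ e) := by
  have hq : 2 ≤ 𝕢 := Fintype.one_lt_card
  haveI : Nonempty (Fin n) := ⟨⟨0, by omega⟩⟩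
  by_cases hle : H ≤ torus A
  · exact Or.inl hle
  right
  set T : Subgroup H := (torus A).subgroupOf H with hT
  have hlt : T < ⊤ := by
    rw [lt_top_iff_ne_top]
    intro h0
    exact hle fun g hg => Subgroup.mem_subgroupOf.1 (show (⟨g, hg⟩ : H) ∈ T by rw [h0]; trivial)
  have hnc : NormalizerCondition H := Group.normalizerCondition_of_isNilpotent
  obtain ⟨x, hxN, hxT⟩ := SetLike.exists_of_lt (hnc T hlt)
  let s' : H := ⟨s, hs⟩
  have hs' : s' ∈ T := Subgroup.mem_subgroupOf.2 h.mem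
  have hxs : x * s' * x⁻¹ ∈ T := (Subgroup.mem_normalizer_iff.1 hxN s').1 hs'
  obtain ⟨j, hjn, hj⟩ := h.singer.exists_frobenius (by omega) (x : GL (Fin n) F)
    (h.normalizes _ (mem_torus.1 (Subgroup.mem_subgroupOf.1 hxs)))
  have hconj : ∀ y : H, ((y : GL (Fin n) F) : 𝕄) ∈ A → x * y * x⁻¹ = y ^ (𝕢 ^ j) := by
    intro y hy
    refine Subtype.ext (Units.ext ?_)
    simpa using hj _ hy
  rcases Nat.eq_zero_or_pos j with rfl | hj0
  · refine absurd ?_ hxT
    refine Subgroup.mem_subgroupOf.2 (h.mem_of_fix (by omega) _ ?_)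
    simpa using congrArg Subtype.val (hconj s' h.mem)
  have key : ∀ m, s' ^ ((𝕢 ^ j - 1) ^ m) ∈ Subgroup.lowerCentralSeries (⊤ : Subgroup H) m := by
    intro m
    induction m with
    | zero => simp
    | succ m ih =>
      set y := s' ^ ((𝕢 ^ j - 1) ^ m) with hy
      have hyA : ((y : GL (Fin n) F) : 𝕄) ∈ A := by
        simp only [hy, SubmonoidClass.coe_pow, Units.val_pow_eq_pow_val]
        exact A.pow_mem h.mem _
      have h1 : ⁅x, y⁆ = y ^ (𝕢 ^ j - 1) := by
        have h1' : y ^ (𝕢 ^ j) = y ^ (𝕢 ^ j - 1) * y := by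
          rw [← pow_succ, Nat.sub_add_cancel (Nat.one_le_pow _ _ (by omega))]
        rw [commutatorElement_def, hconj y hyA, h1', mul_inv_cancel_right]
      rw [pow_succ, pow_mul, ← hy, ← h1, Subgroup.lowerCentralSeries_succ, Subgroup.commutator_comm]
      exact Subgroup.commutator_mem_commutator (Subgroup.mem_top x) ih
  obtain ⟨m, hm⟩ := Subgroup.nilpotent_iff_lowerCentralSeries.1 ‹Group.IsNilpotent H›
  have h2 := key m
  rw [hm, Subgroup.mem_bot] at h2
  have h3 : (s : 𝕄) ^ ((𝕢 ^ j - 1) ^ m) = scalar (Fin n) (1 : F) := by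
    rw [map_one]
    simpa [s'] using congrArg (fun g : H => ((g : GL (Fin n) F) : 𝕄)) h2
  exact mersenne_of_dvd hq hn hj0 hjn (h.ord _ _ h3)

/-- A generator never commutes with a non-trivial unipotent element. -/
theorem not_commute_unipotent (h : IsGen A s) (hn : 2 ≤ n) (u : GL (Fin n) F) (hu : u ≠ 1)
    (hnil : ((u : 𝕄) - 1) ^ n = 0) : ¬ Commute s u := by
  haveI : Nonempty (Fin n) := ⟨⟨0, by omega⟩⟩
  intro hc
  have hA : (u : 𝕄) ∈ A := h.mem_of_commute (by omega) _ (congrArg Units.val hc.eq).symm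
  have hne : (u : 𝕄) - 1 ≠ 0 := fun h0 => hu (Units.ext (sub_eq_zero.1 h0))
  have := (h.singer.unit _ (A.sub_mem hA A.one_mem) hne).pow n
  rw [hnil] at this
  exact not_isUnit_zero this

end IsGen

/-- A nilpotent subgroup with a non-scalar element has a projectively central non-scalar element. -/
theorem exists_proj_central (H : Subgroup (GL (Fin n) F)) [Group.IsNilpotent H]
    {g : GL (Fin n) F} (hg : g ∈ H) (hgs : ∀ c : F, (g : 𝕄) ≠ scalar (Fin n) c) :
    ∃ z ∈ H, (∀ c : F, (z : 𝕄) ≠ scalar (Fin n) c) ∧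
      ∀ h ∈ H, ∃ c : F, ((z * h * z⁻¹ : GL (Fin n) F) : 𝕄) = scalar (Fin n) c * (h : 𝕄) := by
  classical
  have hex : ∃ m, ∃ z ∈ Subgroup.upperCentralSeries H m,
      ∀ c : F, ((z : GL (Fin n) F) : 𝕄) ≠ scalar (Fin n) c :=
    ⟨Group.nilpotencyClass H, ⟨g, hg⟩, by rw [Subgroup.upperCentralSeries_nilpotencyClass]; trivial,
      hgs⟩
  obtain ⟨z, hz, hzs⟩ := Nat.find_spec hex
  have hm : Nat.find hex ≠ 0 := by
    intro h0
    rw [h0, Subgroup.upperCentralSeries_zero, Subgroup.mem_bot] at hz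
    exact hzs 1 (by simp [hz])
  obtain ⟨m, hm'⟩ := Nat.exists_eq_succ_of_ne_zero hm
  rw [hm'] at hz
  refine ⟨z, z.2, hzs, fun h hh => ?_⟩
  have h1 := Subgroup.mem_upperCentralSeries_succ_iff.1 hz ⟨h, hh⟩
  have h2 := Nat.find_min hex (show m < Nat.find hex by omega)
  push Not at h2
  obtain ⟨c, hc⟩ := h2 _ h1
  refine ⟨c, ?_⟩
  rw [← hc, ← Units.val_mul]
  refine congrArg Units.val ?_
  simp [commutatorElement_def, mul_assoc]

/-- Two generators in one nilpotent group come from the same subfield. -/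
theorem singer_eq_of_nilpotent (hn : 2 ≤ n) (hex : n = 2 → 4 ≤ 𝕢)
    {A₁ A₂ : Subalgebra F (Matrix (Fin n) (Fin n) F)} {s₁ s₂ : GL (Fin n) F}
    (h₁ : IsGen A₁ s₁) (h₂ : IsGen A₂ s₂) (H : Subgroup (GL (Fin n) F)) [Group.IsNilpotent H]
    (hs₁ : s₁ ∈ H) (hs₂ : s₂ ∈ H) : A₁ = A₂ := by
  haveI : Nonempty (Fin n) := ⟨⟨0, by omega⟩⟩
  have key : A₁ ⊓ A₂ = A₁ → A₁ = A₂ := fun h0 => Subalgebra.toSubmodule_injective
    (Submodule.eq_of_le_of_finrank_eq (inf_eq_left.1 h0 : A₁ ≤ A₂)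
      (h₁.singer.rank.trans h₂.singer.rank.symm))
  rcases h₁.le_torus_or hn H hs₁ with hle | ⟨hn2, -⟩
  · have hB : A₁ ⊓ A₂ = A₂ :=
      h₂.min _ ⟨mem_torus.1 (hle hs₂), h₂.mem⟩ inf_le_right
    exact (Subalgebra.toSubmodule_injective
      (Submodule.eq_of_le_of_finrank_eq (inf_eq_right.1 hB : A₂ ≤ A₁)
        (h₂.singer.rank.trans h₁.singer.rank.symm))).symm
  · subst hn2
    have hns : ∀ c : F, (s₁ : Matrix (Fin 2) (Fin 2) F) ≠ scalar (Fin 2) c := by
      intro c hc
      have hb := h₁.min ⊥ (by rw [hc]; exact (⊥ : Subalgebra F _).algebraMap_mem c) bot_le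
      have := h₁.singer.rank
      rw [← hb, Subalgebra.finrank_bot] at this
      omega
    obtain ⟨z, hzH, hzs, hz⟩ := exists_proj_central H hs₁ hns
    obtain ⟨c₁, hc₁⟩ := hz s₁ hs₁
    obtain ⟨c₂, hc₂⟩ := hz s₂ hs₂
    apply key
    refine Subalgebra.toSubmodule_injective (Submodule.eq_of_le_of_finrank_le ?_ ?_)
    · exact (inf_le_left : A₁ ⊓ A₂ ≤ A₁)
    change finrank F A₁ ≤ finrank F ↥(A₁ ⊓ A₂)
    rw [h₁.singer.rank]
    by_contra hlt
    have h1 : finrank F ↥(A₁ ⊓ A₂) = 1 := by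
      have : 0 < finrank F ↥(A₁ ⊓ A₂) := Module.finrank_pos
      omega
    have hz' : (z : Matrix (Fin 2) (Fin 2) F) ∈ A₁ ⊓ A₂ :=
      ⟨h₁.mem_of_proj_commute hn hex z c₁ hc₁, h₂.mem_of_proj_commute hn hex z c₂ hc₂⟩
    rw [Subalgebra.eq_bot_of_finrank_one h1, Algebra.mem_bot] at hz'
    obtain ⟨c, hc⟩ := hz'
    exact hzs c hc.symm

/-- A generator and a regular unipotent element lie in no common nilpotent group. -/
theorem not_singer_unipotent (hn : 2 ≤ n) {A : Subalgebra F (Matrix (Fin n) (Fin n) F)}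
    {s : GL (Fin n) F} (h : IsGen A s) (g : GL (Fin n) F) (H : Subgroup (GL (Fin n) F))
    [Group.IsNilpotent H] (hs : s ∈ H) (hu : unipOf g ∈ H) : False := by
  obtain ⟨p, hp⟩ := CharP.exists F
  obtain ⟨k, hpr, hq⟩ := FiniteField.card F p
  haveI := Fact.mk hpr
  refine h.not_commute_unipotent hn _ (unipOf_ne_one hn g) (unipOf_sub_one_pow g) ?_
  have hcop : (orderOf (⟨s, hs⟩ : H)).Coprime (orderOf (⟨unipOf g, hu⟩ : H)) := by
    rw [← Subgroup.orderOf_coe, ← Subgroup.orderOf_coe]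
    refine Nat.Coprime.of_dvd (orderOf_dvd_of_pow_eq_one h.pow)
      (orderOf_dvd_of_pow_eq_one (unipOf_pow p g)) (Nat.Coprime.pow_right _ ?_)
    rw [Nat.coprime_comm, hpr.coprime_iff_not_dvd]
    intro hd
    obtain ⟨m, rfl⟩ := Nat.exists_eq_succ_of_ne_zero (show n ≠ 0 by omega)
    rw [repunit, Finset.sum_range_succ', pow_zero,
      Nat.dvd_add_right (Finset.dvd_sum fun i _ => dvd_pow
        (hq ▸ dvd_pow_self p k.pos.ne') (Nat.succ_ne_zero i))] at hd
    exact hpr.not_dvd_one hd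
  exact congrArg Subtype.val (Cfsg.Agent.OddLocal.commute_of_coprime_orderOf hcop).eq

/-- A `p`-group in `GL n F` leaves a subspace of every dimension invariant. -/
theorem exists_invariant (p : ℕ) [Fact p.Prime] [CharP F p] (S : Subgroup (GL (Fin n) F))
    (hS : IsPGroup p S) :
    ∀ k ≤ n, ∃ W : Submodule F (Fin n → F), finrank F W = k ∧
      ∀ s ∈ S, ∀ w ∈ W, (s : 𝕄) *ᵥ w ∈ W := by
  intro k
  induction k with
  | zero =>
    intro _
    refine ⟨⊥, finrank_bot F _, fun s _ w hw => ?_⟩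
    rw [Submodule.mem_bot] at hw ⊢
    rw [hw, mulVec_zero]
  | succ k ih =>
    intro hk
    obtain ⟨W, hWk, hW⟩ := ih (by omega)
    letI act : MulAction S ((Fin n → F) ⧸ W) :=
      { smul := fun s x => W.mapQ W (Matrix.toLin' ((s : GL (Fin n) F) : 𝕄))
          (fun w hw => by simpa using hW _ s.2 w hw) x
        one_smul := fun x => by
          obtain ⟨y, rfl⟩ := Submodule.Quotient.mk_surjective W x
          change W.mapQ W _ _ _ = _
          rw [Submodule.mapQ_apply]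
          simp
        mul_smul := fun s t x => by
          obtain ⟨y, rfl⟩ := Submodule.Quotient.mk_surjective W x
          change W.mapQ W _ _ _ = W.mapQ W _ _ (W.mapQ W _ _ _)
          rw [Submodule.mapQ_apply, Submodule.mapQ_apply, Submodule.mapQ_apply]
          simp [mulVec_mulVec] }
    have hcard : p ∣ Nat.card ((Fin n → F) ⧸ W) := by
      rw [Module.natCard_eq_pow_finrank (K := F), Nat.card_eq_fintype_card]
      obtain ⟨j, hpr, hq⟩ := FiniteField.card F p
      have hd := W.finrank_quotient_add_finrank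
      rw [finrank_fin_fun] at hd
      rw [hq, ← pow_mul]
      exact dvd_pow_self p (Nat.mul_ne_zero j.pos.ne' (by omega))
    have h0 : (0 : (Fin n → F) ⧸ W) ∈ MulAction.fixedPoints S ((Fin n → F) ⧸ W) := fun s => map_zero _
    obtain ⟨b, hb, hb0⟩ := hS.exists_fixed_point_of_prime_dvd_card_of_fixed_point _ hcard h0
    obtain ⟨v, rfl⟩ := Submodule.Quotient.mk_surjective W b
    have hv : v ∉ W := fun hv => hb0 ((Submodule.Quotient.mk_eq_zero W).2 hv).symm
    refine ⟨W ⊔ Submodule.span F {v}, ?_, fun s hs w hw => ?_⟩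
    · have hv0 : v ≠ 0 := fun h0' => hv (h0' ▸ W.zero_mem)
      have hdisj : W ⊓ Submodule.span F {v} = ⊥ := by
        rw [← disjoint_iff, Submodule.disjoint_span_singleton' hv0]
        exact hv
      have h1 := Submodule.finrank_sup_add_finrank_inf_eq W (Submodule.span F {v})
      rw [hdisj, finrank_bot, finrank_span_singleton hv0, hWk, add_zero] at h1
      exact h1
    · obtain ⟨a, ha, b, hb', rfl⟩ := Submodule.mem_sup.1 hw
      obtain ⟨c, rfl⟩ := Submodule.mem_span_singleton.1 hb'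
      have h2 : (s : 𝕄) *ᵥ v - v ∈ W := (Submodule.Quotient.eq W).1 (hb ⟨s, hs⟩)
      rw [mulVec_add, mulVec_smul,
        show (s : 𝕄) *ᵥ a + c • ((s : 𝕄) *ᵥ v)
          = ((s : 𝕄) *ᵥ a + c • ((s : 𝕄) *ᵥ v - v)) + c • v by rw [smul_sub]; abel]
      exact Submodule.add_mem_sup (W.add_mem (hW s hs a ha) (W.smul_mem c h2))
        (Submodule.mem_span_singleton.2 ⟨c, rfl⟩)

/-- Regular unipotent elements in one nilpotent group have the same flag. -/
theorem flag_eq_of_nilpotent (g g' : GL (Fin n) F) (H : Subgroup (GL (Fin n) F))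
    [Group.IsNilpotent H] (hu : unipOf g ∈ H) (hu' : unipOf g' ∈ H) : flag g = flag g' := by
  obtain ⟨p, hp⟩ := CharP.exists F
  obtain ⟨k, hpr, hq⟩ := FiniteField.card F p
  haveI := Fact.mk hpr
  obtain ⟨P⟩ : Nonempty (Sylow p H) := inferInstance
  haveI hPn : (P : Subgroup H).Normal :=
    Cfsg.Agent.Core.isNilpotent_iff_forall_sylow_normal.mp inferInstance p ⟨hpr⟩ P
  have hmem : ∀ u : GL (Fin n) F, ∀ hu : u ∈ H, u ^ (p ^ n) = 1 → u ∈ (P : Subgroup H).map H.subtype := by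
    intro u hu h1
    have hpg : IsPGroup p (Subgroup.zpowers (⟨u, hu⟩ : H)) := by
      have h2 : orderOf (⟨u, hu⟩ : H) ∣ p ^ n := by
        rw [← Subgroup.orderOf_coe]; exact orderOf_dvd_of_pow_eq_one h1
      obtain ⟨i, -, hi⟩ := (Nat.dvd_prime_pow hpr).1 h2
      exact IsPGroup.of_card (n := i) (by rw [Nat.card_zpowers, hi])
    obtain ⟨Q, hQ⟩ := hpg.exists_le_sylow
    letI := Sylow.unique_of_normal P hPn
    refine ⟨⟨u, hu⟩, ?_, rfl⟩
    rw [show P = Q from Subsingleton.elim _ _]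
    exact hQ (Subgroup.mem_zpowers _)
  have hS : IsPGroup p ↥((P : Subgroup H).map H.subtype) := P.2.map _
  funext m
  by_cases hmn : n ≤ m
  · rw [flag_eq_top g hmn, flag_eq_top g' hmn]
  obtain ⟨W, hWk, hW⟩ := exists_invariant p _ hS m (by omega)
  rw [← hWk, ← eq_flag_of_invariant g W fun w hw => hW _ (hmem _ hu (unipOf_pow p g)) w hw,
    ← eq_flag_of_invariant g' W fun w hw => hW _ (hmem _ hu' (unipOf_pow p g')) w hw]

end Cfsg.Agent.NilpCover
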