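import Cfsg.Agent.NilpCover.Num

/-!
Maximal subfields of a matrix algebra over a finite field.
-/

set_option autoImplicit false

namespace Cfsg.Agent.NilpCover

open Matrix Polynomial Module

variable {F : Type*} [Field F] [Fintype F] {n : ℕ}

local notation "𝕄" => Matrix (Fin n) (Fin n) F

local notation "𝕢" => Fintype.card F

/-- A subfield of degree `n` of the matrix algebra. -/
structure IsSinger (A : Subalgebra F 𝕄) : Prop where
  rank : finrank F A = n
  unit : ∀ a ∈ A, a ≠ 0 → IsUnit a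
  comm : ∀ a ∈ A, ∀ b ∈ A, a * b = b * a

namespace IsSinger

variable {A : Subalgebra F (Matrix (Fin n) (Fin n) F)}

theorem transitive (h : IsSinger A) {v : Fin n → F} (hv : v ≠ 0) (w : Fin n → F) :
    ∃ a ∈ A, a *ᵥ v = w := by
  let f : A →ₗ[F] (Fin n → F) :=
    { toFun := fun a => (a : 𝕄) *ᵥ v
      map_add' := fun a b => Matrix.add_mulVec _ _ _
      map_smul' := fun c a => Matrix.smul_mulVec _ _ _ }
  have hf : Function.Injective f := by
    rw [← LinearMap.ker_eq_bot, LinearMap.ker_eq_bot']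
    intro a ha
    by_contra hne
    have hu := h.unit _ a.2 (fun h0 => hne (Subtype.ext h0))
    exact hv (mulVec_injective_of_isUnit hu (by simpa using! ha))
  obtain ⟨a, ha⟩ :=
    (LinearMap.injective_iff_surjective_of_finrank_eq_finrank (by rw [h.rank, finrank_fin_fun])).1 hf w
  exact ⟨a, a.2, ha⟩

theorem commutant (h : IsSinger A) (hn : 0 < n) (g : 𝕄) (hg : ∀ a ∈ A, g * a = a * g) : g ∈ A := by
  set v : Fin n → F := Pi.single ⟨0, hn⟩ 1 with hv
  have hv0 : v ≠ 0 := by simp [hv]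
  obtain ⟨a, ha, hav⟩ := h.transitive hv0 (g *ᵥ v)
  suffices g = a by rwa [this]
  refine Matrix.toLin'.injective (LinearMap.ext fun w => ?_)
  obtain ⟨b, hb, rfl⟩ := h.transitive hv0 w
  rw [Matrix.toLin'_apply, Matrix.toLin'_apply, mulVec_mulVec, mulVec_mulVec, hg b hb,
    ← mulVec_mulVec, ← hav, mulVec_mulVec, h.comm b hb a ha]

/-- The field structure. -/
noncomputable abbrev field (h : IsSinger A) (hn : 0 < n) : Field A :=
  letI : CommRing A :=
    { A.toRing with mul_comm := fun a b => Subtype.ext (h.comm a a.2 b b.2) }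
  IsField.toField <| by
    haveI : Nonempty (Fin n) := ⟨⟨0, hn⟩⟩
    refine ⟨⟨0, 1, zero_ne_one⟩, mul_comm, fun {a} ha => ?_⟩
    obtain ⟨u, hu⟩ := h.unit _ a.2 (fun h0 => ha (Subtype.ext h0))
    let L : A →ₗ[F] A := LinearMap.mulLeft F a
    have hL : Function.Injective L := by
      intro x y hxy
      apply Subtype.ext
      have := congrArg (fun z : A => (z : 𝕄)) hxy
      simp only [L, LinearMap.mulLeft_apply, Subalgebra.coe_mul, ← hu] at this
      exact (Units.mul_right_inj u).1 this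
    obtain ⟨b, hb⟩ := LinearMap.surjective_of_injective hL 1
    exact ⟨b, hb⟩

theorem natCard (h : IsSinger A) : Nat.card A = 𝕢 ^ n := by
  rw [Module.natCard_eq_pow_finrank (K := F), h.rank, Nat.card_eq_fintype_card]

/-- A generator of the kernel of the norm. -/
theorem exists_gen (h : IsSinger A) (hn : 2 ≤ n) :
    ∃ s : GL (Fin n) F, (s : 𝕄) ∈ A ∧ (s : 𝕄).det = 1 ∧ s ^ repunit 𝕢 n = 1 ∧
      (∀ B : Subalgebra F 𝕄, (s : 𝕄) ∈ B → B ≤ A → B = A) ∧
      ∀ (k : ℕ) (z : F), (s : 𝕄) ^ k = scalar (Fin n) z → repunit 𝕢 n ∣ (𝕢 - 1) * k := by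
  have hq : 2 ≤ 𝕢 := Fintype.one_lt_card
  letI := h.field (by omega)
  obtain ⟨g, hg⟩ := IsCyclic.exists_ofOrder_eq_natCard (α := Aˣ)
  rw [Nat.card_units, h.natCard] at hg
  let t : GL (Fin n) F := Units.map (A.val : A →* 𝕄) g
  have ht : ∀ k : ℕ, t ^ k = 1 ↔ 𝕢 ^ n - 1 ∣ k := by
    intro k
    rw [← hg, orderOf_dvd_iff_pow_eq_one, ← map_pow]
    exact map_eq_one_iff _ (Units.map_injective Subtype.val_injective)
  have hN : ∀ k : ℕ, t ^ ((𝕢 - 1) * k) = 1 ↔ repunit 𝕢 n ∣ k := by
    intro k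
    rw [ht, ← repunit_mul (show 1 ≤ 𝕢 by omega)]
    exact Nat.mul_dvd_mul_iff_left (by omega)
  have hmem : ((t ^ (𝕢 - 1) : GL (Fin n) F) : 𝕄) ∈ A := by
    rw [Units.val_pow_eq_pow_val]
    exact A.pow_mem (g : A).2 _
  refine ⟨t ^ (𝕢 - 1), hmem, ?_, ?_, ?_, ?_⟩
  · rw [Units.val_pow_eq_pow_val, det_pow]
    exact FiniteField.pow_card_sub_one_eq_one _ ((isUnit_iff_isUnit_det _).1 t.isUnit).ne_zero
  · rw [← pow_mul]
    exact (hN _).2 dvd_rfl
  · intro B hB hBA
    have hle : Subalgebra.toSubmodule B ≤ Subalgebra.toSubmodule A := hBA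
    apply Subalgebra.toSubmodule_injective
    refine Submodule.eq_of_le_of_finrank_le hle ?_
    change finrank F A ≤ finrank F B
    rw [h.rank]
    by_contra hlt
    push_neg at hlt
    let f : Fin (repunit 𝕢 n) → B := fun i =>
      ⟨((t ^ (𝕢 - 1) : GL (Fin n) F) : 𝕄) ^ (i : ℕ), B.pow_mem hB _⟩
    have hf : Function.Injective f := by
      intro i j hij
      have h1 : (t ^ (𝕢 - 1)) ^ (i : ℕ) = (t ^ (𝕢 - 1)) ^ (j : ℕ) := by
        apply Units.ext
        simpa [f] using congrArg Subtype.val hij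
      have ho : orderOf (t ^ (𝕢 - 1)) = repunit 𝕢 n := by
        apply Nat.dvd_antisymm
        · rw [orderOf_dvd_iff_pow_eq_one, ← pow_mul]; exact (hN _).2 dvd_rfl
        · rw [← hN, pow_mul, pow_orderOf_eq_one]
      rw [pow_inj_mod, ho, Nat.mod_eq_of_lt i.2, Nat.mod_eq_of_lt j.2] at h1
      exact Fin.ext h1
    have hc := Nat.card_le_card_of_injective f hf
    rw [Nat.card_fin, Module.natCard_eq_pow_finrank (K := F), Nat.card_eq_fintype_card] at hc
    have h2 := pow_lt_repunit (q := 𝕢) hn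
    have h3 : 𝕢 ^ finrank F B ≤ 𝕢 ^ (n - 1) := Nat.pow_le_pow_right (by omega) (by omega)
    omega
  · intro k z hk
    haveI : Nonempty (Fin n) := ⟨⟨0, by omega⟩⟩
    have hz : z ≠ 0 := by
      rintro rfl
      have h0 := ((t ^ (𝕢 - 1)).isUnit.pow k)
      rw [hk, map_zero] at h0
      exact not_isUnit_zero h0
    have h1 : (t ^ (𝕢 - 1)) ^ (k * (𝕢 - 1)) = 1 := by
      apply Units.ext
      rw [Units.val_pow_eq_pow_val, pow_mul, hk, ← map_pow,
        FiniteField.pow_card_sub_one_eq_one z hz, map_one, Units.val_one]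
    rw [← pow_mul, hN, mul_comm] at h1
    exact h1

/-- The normaliser acts by powers of the Frobenius map. -/
theorem exists_frobenius (h : IsSinger A) (hn : 0 < n) (g : GL (Fin n) F)
    (hg : ∀ a ∈ A, (g : 𝕄) * a * (g⁻¹ : GL (Fin n) F) ∈ A) :
    ∃ j < n, ∀ a ∈ A, (g : 𝕄) * a * (g⁻¹ : GL (Fin n) F) = a ^ (𝕢 ^ j) := by
  letI := h.field hn
  let σ : A →ₐ[F] A :=
    { toFun := fun a => ⟨(g : 𝕄) * a * (g⁻¹ : GL (Fin n) F), hg a a.2⟩
      map_one' := Subtype.ext (by simp)
      map_mul' := fun a b => Subtype.ext (by simp [mul_assoc])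
      map_zero' := Subtype.ext (by simp)
      map_add' := fun a b => Subtype.ext (by simp [mul_add, add_mul])
      commutes' := fun c => Subtype.ext (by
        change (g : 𝕄) * algebraMap F 𝕄 c * (g⁻¹ : GL (Fin n) F) = algebraMap F 𝕄 c
        rw [← Algebra.commutes, mul_assoc, Units.mul_inv, mul_one]) }
  haveI : Finite A := inferInstance
  obtain ⟨j, hj⟩ := (FiniteField.bijective_frobeniusAlgHom_pow F A).2 σ
  have key : ∀ (i : ℕ) (a : A), (FiniteField.frobeniusAlgHom F A ^ i) a = a ^ (𝕢 ^ i) := by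
    intro i
    induction i with
    | zero => intro a; simp
    | succ i ih =>
      intro a
      rw [pow_succ, AlgHom.mul_apply, ih, pow_succ, mul_comm, pow_mul]
      rfl
  refine ⟨j, by simpa [h.rank] using j.2, fun a ha => ?_⟩
  have h1 := congrArg Subtype.val ((congrArg (fun τ : A →ₐ[F] A => τ ⟨a, ha⟩) hj).symm.trans
    (key j ⟨a, ha⟩))
  simpa [σ] using! h1

end IsSinger

/-- A matrix without small invariant subspaces lies in a field of degree `n`. -/
theorem exists_singer (hn : 0 < n) (a : 𝕄)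
    (ha : ∀ W : Submodule F (Fin n → F), W ≠ ⊥ → (∀ w ∈ W, a *ᵥ w ∈ W) → n < 2 * finrank F W) :
    ∃ A : Subalgebra F 𝕄, IsSinger A ∧ a ∈ A := by
  haveI : Nonempty (Fin n) := ⟨⟨0, hn⟩⟩
  have hint : IsIntegral F a := IsIntegral.of_finite F a
  set P := minpoly F a with hP
  have hP0 : P ≠ 0 := minpoly.ne_zero hint
  have hdeg : P.natDegree ≤ n := by
    have h1 : P ∣ a.charpoly := minpoly.dvd F a (Matrix.aeval_self_charpoly a)
    have h2 := natDegree_le_of_dvd h1 (Matrix.charpoly_monic a).ne_zero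
    simpa [Matrix.charpoly_natDegree_eq_dim] using h2
  have hbig : ∀ f : F[X], Irreducible f → f ∣ P → n < 2 * f.natDegree := by
    intro f hf hfP
    obtain ⟨c, hc⟩ := hfP
    have hcne : aeval a c ≠ 0 := by
      intro h0
      have hc0 : c ≠ 0 := by rintro rfl; simp [hc] at hP0
      have := natDegree_le_of_dvd (minpoly.dvd F a h0) hc0
      rw [← hP, hc, natDegree_mul hf.ne_zero hc0] at this
      have := hf.natDegree_pos
      omega
    obtain ⟨v, hv⟩ : ∃ v, aeval a c *ᵥ v ≠ 0 := by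
      by_contra hall
      push_neg at hall
      exact hcne (Matrix.toLin'.injective (LinearMap.ext fun v => by simpa using hall v))
    set w := aeval a c *ᵥ v with hw
    have hfw : aeval a f *ᵥ w = 0 := by
      rw [hw, mulVec_mulVec, ← map_mul, ← hc, hP, minpoly.aeval, zero_mulVec]
    let φ : F[X] →ₗ[F] (Fin n → F) :=
      { toFun := fun r => aeval a r *ᵥ w
        map_add' := fun r s => by rw [map_add, add_mulVec]
        map_smul' := fun k r => by rw [map_smul, smul_mulVec]; rfl }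
    let W := (degreeLT F f.natDegree).map φ
    have hmem : ∀ r, φ r ∈ W := by
      intro r
      refine ⟨r % f, ?_, ?_⟩
      · rw [SetLike.mem_coe, mem_degreeLT]
        exact lt_of_lt_of_le (EuclideanDomain.mod_lt _ hf.ne_zero) degree_le_natDegree
      · change aeval a (r % f) *ᵥ w = aeval a r *ᵥ w
        conv_rhs => rw [← EuclideanDomain.mod_add_div r f, map_add, add_mulVec, mul_comm f,
          map_mul, ← mulVec_mulVec, hfw, mulVec_zero, add_zero]
    have hfin : Module.Finite F (degreeLT F f.natDegree) :=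
      Module.Finite.equiv (degreeLTEquiv F f.natDegree).symm
    have hle : finrank F W ≤ f.natDegree := by
      refine (Submodule.finrank_map_le φ _).trans (le_of_eq ?_)
      rw [LinearEquiv.finrank_eq (degreeLTEquiv F f.natDegree), finrank_fin_fun]
    have hW : W ≠ ⊥ := by
      intro h0
      have h1 := hmem 1
      rw [h0, Submodule.mem_bot] at h1
      apply hv
      simpa [φ] using h1
    have hinv : ∀ x ∈ W, a *ᵥ x ∈ W := by
      rintro _ ⟨r, -, rfl⟩
      have : a *ᵥ φ r = φ (X * r) := by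
        change a *ᵥ (aeval a r *ᵥ w) = aeval a (X * r) *ᵥ w
        rw [map_mul, aeval_X, mulVec_mulVec]
      rw [this]; exact hmem _
    have := ha W hW hinv
    omega
  have hirr : Irreducible P := by
    refine irreducible_iff.2 ⟨minpoly.not_isUnit F a, fun b c hbc => ?_⟩
    by_contra hcon
    push_neg at hcon
    obtain ⟨f, hf, hfb⟩ := WfDvdMonoid.exists_irreducible_factor hcon.1 (by rintro rfl; simp [hbc] at hP0)
    obtain ⟨g, hg, hgc⟩ := WfDvdMonoid.exists_irreducible_factor hcon.2 (by rintro rfl; simp [hbc] at hP0)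
    have h1 := hbig f hf (hbc ▸ hfb.mul_right c)
    have h2 := hbig g hg (hbc ▸ hgc.mul_left b)
    have h3 := natDegree_le_of_dvd (hbc ▸ mul_dvd_mul hfb hgc : f * g ∣ P) hP0
    rw [natDegree_mul hf.ne_zero hg.ne_zero] at h3
    omega
  refine ⟨(aeval a : F[X] →ₐ[F] 𝕄).range, ⟨?_, ?_, ?_⟩, X, aeval_X a⟩
  · let v : Fin n → F := Pi.single ⟨0, hn⟩ 1
    have hv : v ≠ 0 := by simp [v]
    set A := (aeval a : F[X] →ₐ[F] 𝕄).range with hA
    have hunit : ∀ x ∈ A, x ≠ 0 → IsUnit x := by
      rintro _ ⟨r, rfl⟩ hr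
      have hnd : ¬ P ∣ r := by
        rintro ⟨s, rfl⟩
        exact hr (by change aeval a (P * s) = 0; rw [map_mul, hP, minpoly.aeval, zero_mul])
      obtain ⟨s, t, hst⟩ := (hirr.coprime_iff_not_dvd.2 hnd)
      refine IsUnit.of_mul_eq_one_right (aeval a t) ?_
      have := congrArg (aeval a) hst
      rwa [map_add, map_mul, map_mul, hP, minpoly.aeval, mul_zero, zero_add, map_one] at this
    let f : (Fin n → F) → A →ₗ[F] (Fin n → F) := fun u =>
      { toFun := fun x => (x : 𝕄) *ᵥ u
        map_add' := fun x y => Matrix.add_mulVec _ _ _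
        map_smul' := fun c x => Matrix.smul_mulVec _ _ _ }
    have hinj : ∀ u, u ≠ 0 → Function.Injective (f u) := by
      intro u hu
      rw [← LinearMap.ker_eq_bot, LinearMap.ker_eq_bot']
      intro x hx
      by_contra hne
      exact hu (mulVec_injective_of_isUnit (hunit _ x.2 fun h0 => hne (Subtype.ext h0))
        (by simpa using! hx))
    have hinv : ∀ u, ∀ x ∈ LinearMap.range (f u), a *ᵥ x ∈ LinearMap.range (f u) := by
      rintro u _ ⟨x, rfl⟩
      refine ⟨(⟨a, ⟨X, aeval_X a⟩⟩ : A) * x, ?_⟩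
      change (a * (x : 𝕄)) *ᵥ u = a *ᵥ ((x : 𝕄) *ᵥ u)
      rw [mulVec_mulVec]
    have hne : ∀ u, u ≠ 0 → LinearMap.range (f u) ≠ ⊥ := fun u hu h0 =>
      hu (by
        have : f u 1 ∈ LinearMap.range (f u) := ⟨1, rfl⟩
        rw [h0, Submodule.mem_bot] at this
        simpa [f] using this)
    have hrk : ∀ u, u ≠ 0 → finrank F (LinearMap.range (f u)) = finrank F A := fun u hu =>
      LinearMap.finrank_range_of_inj (hinj u hu)
    by_contra hcon
    obtain ⟨w, hw⟩ : ∃ w, w ∉ LinearMap.range (f v) := by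
      by_contra hall
      push_neg at hall
      apply hcon
      rw [← hrk v hv, Submodule.eq_top_iff'.2 hall, finrank_top, finrank_fin_fun]
    have hw0 : w ≠ 0 := fun h0 => hw (h0 ▸ Submodule.zero_mem _)
    have hdisj : LinearMap.range (f v) ⊓ LinearMap.range (f w) = ⊥ := by
      rw [eq_bot_iff]
      rintro _ ⟨⟨x, rfl⟩, y, hy⟩
      rw [Submodule.mem_bot]
      by_cases hy0 : y = 0
      · rw [← hy, hy0, map_zero]
      obtain ⟨yu, hyu⟩ := hunit _ y.2 (fun h0 => hy0 (Subtype.ext h0))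
      exfalso
      apply hw
      -- the inverse of `y` lies in the algebra
      obtain ⟨y', hy'⟩ := LinearMap.surjective_of_injective
        (f := LinearMap.mulLeft F y) (fun p r hpr => by
          apply Subtype.ext
          have := congrArg (fun z : A => (z : 𝕄)) hpr
          simp only [LinearMap.mulLeft_apply, Subalgebra.coe_mul, ← hyu] at this
          exact (Units.mul_right_inj yu).1 this) (1 : A)
      refine ⟨y' * x, ?_⟩
      change ((y' : 𝕄) * (x : 𝕄)) *ᵥ v = w
      have h1 : (y : 𝕄) * y' = 1 := congrArg Subtype.val hy'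
      rw [← mulVec_mulVec, show (x : 𝕄) *ᵥ v = (y : 𝕄) *ᵥ w from hy.symm, mulVec_mulVec,
        mul_eq_one_comm.1 h1, one_mulVec]
    have h1 := Submodule.finrank_sup_add_finrank_inf_eq (LinearMap.range (f v)) (LinearMap.range (f w))
    rw [hdisj, finrank_bot, hrk v hv, hrk w hw0, add_zero] at h1
    have h2 := Submodule.finrank_le (LinearMap.range (f v) ⊔ LinearMap.range (f w))
    rw [finrank_fin_fun] at h2
    have h3 := ha _ (hne v hv) (hinv v)
    rw [hrk v hv] at h3
    omega
  · rintro _ ⟨r, rfl⟩ hr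
    have hnd : ¬ P ∣ r := by
      rintro ⟨s, rfl⟩
      exact hr (by change aeval a (P * s) = 0; rw [map_mul, hP, minpoly.aeval, zero_mul])
    obtain ⟨s, t, hst⟩ := (hirr.coprime_iff_not_dvd.2 hnd)
    refine IsUnit.of_mul_eq_one_right (aeval a t) ?_
    have := congrArg (aeval a) hst
    rwa [map_add, map_mul, map_mul, hP, minpoly.aeval, mul_zero, zero_add, map_one] at this
  · rintro _ ⟨r, rfl⟩ _ ⟨s, rfl⟩
    rw [← map_mul, ← map_mul, mul_comm]

end Cfsg.Agent.NilpCover
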